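import Mathlib
import Cfsg.Prelude.Def_Solvable
import Cfsg.Prelude.Def_Local
import Cfsg.Agent.Lib.Helper4.ThBFourier

/-!
# S3801 (Gross, `l_2 ≤ 2e - 1`): interface definitions (helper21)

`PTOut X g m` is the OUTPUT of the plane-torus block P and the INPUT of the endgame block E, in
abstract-group form (`X = ↥H` for the linear group `H` of CORE).  Notation in the docstrings:
`g0 = g ^ 2 ^ (m - 1)`, `K = O_{2'}(X)`, `Z = Z(C)`, `C⁻ = {c ∈ C | g0 c g0⁻¹ c ∈ Z}`.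
-/

set_option autoImplicit false

namespace Cfsg.Agent.Helper21.GT

variable {X : Type*} [Group X]

/-- the centre of the subgroup `C`, as a set of elements of `X` -/
def zC (C : Subgroup X) : Set X := {z | z ∈ C ∧ ∀ c ∈ C, z * c = c * z}

/-- `C⁻(t) = {c ∈ C | t c t⁻¹ c ∈ Z(C)}`: the preimage of the part of `C / Z(C)` inverted by `t` -/
def cMinus (C : Subgroup X) (t : X) : Set X := {c | c ∈ C ∧ t * c * t⁻¹ * c ∈ zC C}

/-- OUTPUT of the plane-torus block P.  There are a Mersenne prime `q = 2 ^ n - 1` (`2 ≤ n ≤ m`) and a normal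
`q`-subgroup `C` of class at most 2 with `Z(C) ≤ Z(X)` such that, with `g0 = g ^ 2 ^ (m - 1)`:
`|C⁻(g0) / Z(C)| = q ^ 2` and `g` centralises every element of `O_{2'}(X)` that centralises `C⁻(g0)`. -/
def PTOut (X : Type*) [Group X] (g : X) (m : ℕ) : Prop :=
  ∃ (q n : ℕ) (C : Subgroup X), q.Prime ∧ 2 ≤ n ∧ n ≤ m ∧ q + 1 = 2 ^ n ∧
    C.Normal ∧ IsPGroup q C ∧
    (∀ z ∈ zC C, ∀ x : X, z * x = x * z) ∧
    (∀ a ∈ C, ∀ b ∈ C, a * b * a⁻¹ * b⁻¹ ∈ zC C) ∧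
    Nat.card (cMinus C (g ^ 2 ^ (m - 1))) = q ^ 2 * Nat.card (zC C) ∧
    (∀ y ∈ Cfsg.pPrimeCore 2 X, (∀ c ∈ cMinus C (g ^ 2 ^ (m - 1)), y * c = c * y) → g * y = y * g)

end Cfsg.Agent.Helper21.GT
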