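import Mathlib

/-!
# S3801 (Gross), block E: lemma (PT) on two "plane tori" in a finite 2-group, part 1 (helper21)

`W` is a finite abelian group of odd order (multiplicative), `g g' : MulAut W`.  `cg g = [W, g]` and
`fx g = C_W(g)`.
-/

set_option autoImplicit false

namespace Cfsg.Agent.Helper21.GT

section PT

variable {W : Type*} [CommGroup W]

/-- the homomorphism `w ↦ g w / w` -/
def dHom (g : MulAut W) : W →* W where
  toFun w := g w * w⁻¹
  map_one' := by simp
  map_mul' a b := by
    rw [map_mul, mul_inv]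
    exact mul_mul_mul_comm _ _ _ _

@[simp] theorem dHom_apply (g : MulAut W) (w : W) : dHom g w = g w * w⁻¹ := rfl

/-- `[W, g]` -/
def cg (g : MulAut W) : Subgroup W := (dHom g).range

/-- `C_W(g)` -/
def fx (g : MulAut W) : Subgroup W := (dHom g).ker

theorem mem_fx {g : MulAut W} {w : W} : w ∈ fx g ↔ g w = w := by
  unfold fx
  rw [MonoidHom.mem_ker, dHom_apply, mul_inv_eq_one]

theorem mem_cg {g : MulAut W} {w : W} : w ∈ cg g ↔ ∃ v, g v * v⁻¹ = w := by
  unfold cg
  rw [MonoidHom.mem_range]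
  rfl

theorem dmem_cg (g : MulAut W) (w : W) : g w * w⁻¹ ∈ cg g := mem_cg.mpr ⟨w, rfl⟩

/-- the set of elements inverted by `z` -/
def iv (z : MulAut W) : Subgroup W where
  carrier := {w | z w = w⁻¹}
  one_mem' := by simp
  mul_mem' := by
    intro a b ha hb
    simp only [Set.mem_ofPred_eq] at ha hb ⊢
    rw [map_mul, ha, hb, mul_inv]
  inv_mem' := by
    intro a ha
    simp only [Set.mem_ofPred_eq] at ha ⊢
    rw [map_inv, ha]

theorem mem_iv {z : MulAut W} {w : W} : w ∈ iv z ↔ z w = w⁻¹ := Iff.rfl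

/-- if `z` commutes with `g` then `z` maps `[W,g]` into itself -/
theorem cg_inv_of_comm {g z : MulAut W} (h : z * g = g * z) {w : W} (hw : w ∈ cg g) :
    z w ∈ cg g := by
  obtain ⟨v, rfl⟩ := mem_cg.mp hw
  rw [map_mul, map_inv]
  have : z (g v) = g (z v) := by
    have := congrArg (fun f : MulAut W => f v) h
    simpa [MulAut.mul_apply] using this
  rw [this]
  exact dmem_cg g (z v)

/-- in a group of odd order an element of 2-power order is trivial -/
theorem eq_one_of_pow_two_pow [Finite W] (hodd : Odd (Nat.card W)) {c : W} {k : ℕ}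
    (hc : c ^ 2 ^ k = 1) : c = 1 := by
  have h1 : orderOf c ∣ 2 ^ k := orderOf_dvd_of_pow_eq_one hc
  have h2 : orderOf c ∣ Nat.card W := orderOf_dvd_natCard c
  have h3 : (2 ^ k).Coprime (Nat.card W) :=
    Nat.Coprime.pow_left _ (Nat.coprime_two_left.mpr hodd)
  have h4 : orderOf c = 1 := Nat.eq_one_of_dvd_coprimes h3 h1 h2
  exact orderOf_eq_one_iff.mp h4

end PT

end Cfsg.Agent.Helper21.GT
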