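import Mathlib
import Cfsg.Agent.Lib.GT.GTEPT1

/-!
# S3801 (Gross), block E: lemma (PT), part 2: the local lemmas (helper21)
-/

set_option autoImplicit false

namespace Cfsg.Agent.Helper21.GT

section PT

variable {W : Type*} [CommGroup W]

theorem ept_aux1 (a w : W) : a = w * (a * w⁻¹) := by
  rw [mul_comm w, inv_mul_cancel_right]

theorem ept_aux2 (a w : W) : a = (a * w⁻¹) * w := by
  rw [inv_mul_cancel_right]

/-- elements of `⟨g, g'⟩` act trivially on `W / ([W,g][W,g'])` -/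
theorem ept_F1 (g g' : MulAut W) {x : MulAut W} (hx : x ∈ Subgroup.closure {g, g'}) (w : W) :
    x w * w⁻¹ ∈ cg g ⊔ cg g' := by
  induction hx using Subgroup.closure_induction generalizing w with
  | mem y hy =>
    rcases hy with rfl | hy
    · exact Subgroup.mem_sup_left (dmem_cg _ w)
    · rw [Set.mem_singleton_iff] at hy
      subst hy
      exact Subgroup.mem_sup_right (dmem_cg _ w)
  | one => simp
  | mul a b _ _ iha ihb =>
    have h1 : (a * b) w * w⁻¹ = (a (b w) * (b w)⁻¹) * (b w * w⁻¹) := by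
      rw [MulAut.mul_apply]
      group
    rw [h1]
    exact Subgroup.mul_mem _ (iha (b w)) (ihb w)
  | inv a _ iha =>
    have h1 : a⁻¹ w * w⁻¹ = (a (a⁻¹ w) * (a⁻¹ w)⁻¹)⁻¹ := by
      rw [MulAut.apply_inv_self]
      group
    rw [h1]
    exact Subgroup.inv_mem _ (iha (a⁻¹ w))

theorem ept_F1' (g g' : MulAut W) {x : MulAut W} (hx : x ∈ Subgroup.closure {g, g'}) {u : W}
    (hu : u ∈ cg g ⊔ cg g') : x u ∈ cg g ⊔ cg g' := by
  have h1 : x u = (x u * u⁻¹) * u := ept_aux2 _ _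
  rw [h1]
  exact Subgroup.mul_mem _ (ept_F1 g g' hx u) hu

/-- a 2-element acting trivially on `U` and on `W / U` is trivial -/
theorem ept_F2 [Finite W] (hodd : Odd (Nat.card W)) (U : Subgroup W) (x : MulAut W) (k : ℕ)
    (hxk : x ^ 2 ^ k = 1) (h1 : ∀ w, x w * w⁻¹ ∈ U) (h2 : ∀ u ∈ U, x u = u) : x = 1 := by
  apply MulEquiv.ext
  intro w
  rw [MulAut.one_apply]
  set c := x w * w⁻¹ with hc
  have hxc : x c = c := h2 c (h1 w)
  have hxw : x w = w * c := by rw [hc]; exact ept_aux1 _ _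
  have key : ∀ j : ℕ, (x ^ j) w = w * c ^ j := by
    intro j
    induction j with
    | zero => simp
    | succ j ih =>
      rw [pow_succ', MulAut.mul_apply, ih, map_mul, map_pow, hxc, hxw, pow_succ]
      group
  have h3 := key (2 ^ k)
  rw [hxk, MulAut.one_apply] at h3
  have h4 : c ^ 2 ^ k = 1 := by
    have : w * 1 = w * c ^ 2 ^ k := by rw [mul_one]; exact h3
    exact (mul_left_cancel this).symm
  have h5 : c = 1 := eq_one_of_pow_two_pow hodd h4
  rw [hxw, h5, mul_one]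

/-- an involution commuting with `g` acts on `[W,g]` as `1` or as inversion -/
theorem ept_F3 (g z : MulAut W) (hz : z * z = 1) (hzg : z * g = g * z)
    (hirr : ∀ U : Subgroup W, U ≤ cg g → (∀ x ∈ U, g x ∈ U) → U = ⊥ ∨ U = cg g) :
    (∀ i ∈ cg g, z i = i) ∨ (∀ i ∈ cg g, z i = i⁻¹) := by
  have hzg' : ∀ w, z (g w) = g (z w) := by
    intro w
    have := congrArg (fun f : MulAut W => f w) hzg
    simpa [MulAut.mul_apply] using this
  have hzz : ∀ w, z (z w) = w := by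
    intro w
    have := congrArg (fun f : MulAut W => f w) hz
    simpa [MulAut.mul_apply] using this
  have hgI : ∀ x ∈ cg g, g x ∈ cg g := by
    intro x hx
    have h1 : g x = (g x * x⁻¹) * x := ept_aux2 _ _
    rw [h1]
    exact Subgroup.mul_mem _ (dmem_cg g x) hx
  rcases hirr (cg g ⊓ fx z) inf_le_left (by
    intro x hx
    rw [Subgroup.mem_inf] at hx ⊢
    refine ⟨hgI x hx.1, ?_⟩
    rw [mem_fx, hzg', mem_fx.mp hx.2]) with h | h
  · right
    intro i hi
    have hzi : z i ∈ cg g := cg_inv_of_comm hzg hi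
    have h1 : i * z i ∈ cg g ⊓ fx z := by
      rw [Subgroup.mem_inf]
      refine ⟨Subgroup.mul_mem _ hi hzi, ?_⟩
      rw [mem_fx, map_mul, hzz, mul_comm]
    rw [h, Subgroup.mem_bot] at h1
    exact (eq_inv_of_mul_eq_one_right h1)
  · left
    intro i hi
    have : i ∈ cg g ⊓ fx z := by rw [h]; exact hi
    exact mem_fx.mp (Subgroup.mem_inf.mp this).2

/-- signs `(+,-)`: `g` and `g'` commute -/
theorem ept_F4 [Finite W] (hodd : Odd (Nat.card W)) (g g' z : MulAut W)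
    (hzg : z * g = g * z) (hzg' : z * g' = g' * z)
    (h1 : ∀ i ∈ cg g, z i = i) (h2 : ∀ i ∈ cg g', z i = i⁻¹) : g * g' = g' * g := by
  have hsq : ∀ b : W, b⁻¹ = b → b = 1 := by
    intro b hb
    apply eq_one_of_pow_two_pow hodd (k := 1)
    rw [pow_one, pow_two]
    nth_rewrite 1 [← hb]
    exact inv_mul_cancel b
  have hzga : ∀ w, z (g w) = g (z w) := by
    intro w
    have := congrArg (fun f : MulAut W => f w) hzg
    simpa [MulAut.mul_apply] using this
  have hzga' : ∀ w, z (g' w) = g' (z w) := by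
    intro w
    have := congrArg (fun f : MulAut W => f w) hzg'
    simpa [MulAut.mul_apply] using this
  -- g' fixes [W,g]
  have hA : ∀ a ∈ cg g, g' a = a := by
    intro a ha
    set b := g' a * a⁻¹ with hb
    have hbI : b ∈ cg g' := dmem_cg g' a
    have e1 : g' a = a * b := by rw [hb]; exact ept_aux1 _ _
    have e2 : z (g' a) = g' a := by rw [hzga', h1 a ha]
    rw [e1, map_mul, h1 a ha, h2 b hbI] at e2
    have e3 : b⁻¹ = b := mul_left_cancel e2
    rw [e1, hsq b e3, mul_one]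
  -- g fixes [W,g']
  have hB : ∀ b ∈ cg g', g b = b := by
    intro b hb
    set a := g b * b⁻¹ with ha
    have haI : a ∈ cg g := dmem_cg g b
    have e1 : g b = b * a := by rw [ha]; exact ept_aux1 _ _
    have e2 : z (g b) = (g b)⁻¹ := by rw [hzga, h2 b hb, map_inv]
    rw [e1, map_mul, h1 a haI, h2 b hb, mul_inv] at e2
    have e3 : a = a⁻¹ := by
      have := mul_left_cancel (a := b⁻¹) (by rw [e2, mul_comm] : b⁻¹ * a = b⁻¹ * a⁻¹)
      exact this
    rw [e1, hsq a e3.symm, mul_one]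
  apply MulEquiv.ext
  intro w
  rw [MulAut.mul_apply, MulAut.mul_apply]
  obtain ⟨b, hbI, e1⟩ : ∃ b ∈ cg g', g' w = b * w := ⟨g' w * w⁻¹, dmem_cg g' w, ept_aux2 _ _⟩
  obtain ⟨a, haI, e2⟩ : ∃ a ∈ cg g, g w = a * w := ⟨g w * w⁻¹, dmem_cg g w, ept_aux2 _ _⟩
  rw [e1, e2, map_mul, map_mul, hB b hbI, hA a haI, e1, e2]
  rw [← mul_assoc, ← mul_assoc, mul_comm b a]

/-- the key step: if `y g y⁻¹ g⁻¹` inverts `U = [W,g][W,g']` then `U ∩ C_W(g) = 1` -/
theorem ept_F5 (g g' y : MulAut W) (hy : y ∈ Subgroup.closure {g, g'})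
    (hz : ∀ u ∈ cg g ⊔ cg g', (y * g * y⁻¹ * g⁻¹) u = u⁻¹)
    (hninv : ∀ w, g w = w⁻¹ → w = 1) {w : W} (hwU : w ∈ cg g ⊔ cg g') (hw : g w = w) :
    w = 1 := by
  set w₁ := y w with hw₁
  have hw₁U : w₁ ∈ cg g ⊔ cg g' := ept_F1' g g' hy hwU
  have hgU : g w₁ ∈ cg g ⊔ cg g' :=
    ept_F1' g g' (Subgroup.subset_closure (Set.mem_insert g _)) hw₁U
  have e1 : (y * g * y⁻¹ * g⁻¹) (g w₁) = w₁ := by
    rw [MulAut.mul_apply, MulAut.mul_apply, MulAut.mul_apply, MulAut.inv_apply_self, hw₁,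
      MulAut.inv_apply_self, hw]
  rw [hz _ hgU] at e1
  have e2 : g w₁ = w₁⁻¹ := inv_eq_iff_eq_inv.mp e1
  have e3 := hninv w₁ e2
  rw [hw₁] at e3
  have : y w = y 1 := by rw [e3, map_one]
  exact y.injective this

/-- commutator with a power, when the commutator is central -/
theorem comm_pow_of_central {G : Type*} [Group G] (y g : G) (hc : (y * g * y⁻¹ * g⁻¹) * y = y * (y * g * y⁻¹ * g⁻¹))
    (j : ℕ) : y ^ j * g * (y ^ j)⁻¹ * g⁻¹ = (y * g * y⁻¹ * g⁻¹) ^ j := by
  induction j with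
  | zero => simp
  | succ j ih =>
    set c := y * g * y⁻¹ * g⁻¹ with hcdef
    have hcj : c ^ j * y = y * c ^ j := by
      have : Commute c y := hc
      exact (this.pow_left j).eq
    have e1 : y ^ j * g * (y ^ j)⁻¹ = c ^ j * g := by
      rw [← ih]; group
    calc y ^ (j + 1) * g * (y ^ (j + 1))⁻¹ * g⁻¹
        = y * (y ^ j * g * (y ^ j)⁻¹) * y⁻¹ * g⁻¹ := by rw [pow_succ']; group
      _ = y * (c ^ j * g) * y⁻¹ * g⁻¹ := by rw [e1]
      _ = (y * c ^ j) * (g * y⁻¹ * g⁻¹) := by group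
      _ = (c ^ j * y) * (g * y⁻¹ * g⁻¹) := by rw [hcj]
      _ = c ^ j * (y * g * y⁻¹ * g⁻¹) := by group
      _ = c ^ (j + 1) := by rw [← hcdef, pow_succ]

end PT

end Cfsg.Agent.Helper21.GT
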