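import Mathlib
import Cfsg.Agent.Lib.GT.GTDefs
import Cfsg.Agent.Lib.GT.GTEPT1

/-!
# S3801 (Gross), block E: the setting of the assembly (helper21)

`C` is a normal subgroup of `X` of odd order and class at most 2 with `Z(C) ≤ Z(X)` (`ESet C`); `W` is (a model of)
`C / Z(C)`, an abelian group, `π : C → W` the projection and `act : X → Aut(W)` the conjugation action (`IsQuot`).
`IsPT a` says that the automorphism `a` of `W` is a "plane torus" (the hypotheses of `pt_main`).
-/

set_option autoImplicit false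

namespace Cfsg.Agent.Helper21.GT

/-- `C` has odd order, class at most two, and `Z(C)` is central in `X`. -/
structure ESet {X : Type*} [Group X] (C : Subgroup X) : Prop where
  cen : ∀ z ∈ zC C, ∀ x : X, z * x = x * z
  cl2 : ∀ a ∈ C, ∀ b ∈ C, a * b * a⁻¹ * b⁻¹ ∈ zC C
  odd : Odd (Nat.card C)

/-- `π : C → W` is the quotient `C / Z(C)` and `act` the conjugation action of `X` on it. -/
structure IsQuot {X : Type*} [Group X] {W : Type*} [CommGroup W] (C : Subgroup X) [C.Normal]
    (π : ↥C →* W) (act : X →* MulAut W) : Prop where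
  surj : Function.Surjective π
  ker : ∀ c : ↥C, π c = 1 ↔ (c : X) ∈ zC C
  eqv : ∀ (x : X) (c : ↥C), act x (π c) = π (MulAut.conjNormal x c)

/-- the hypotheses of `pt_main` on one automorphism -/
def IsPT {W : Type*} [CommGroup W] (a : MulAut W) : Prop :=
  (∀ U : Subgroup W, U ≤ cg a → (∀ x ∈ U, a x ∈ U) → U = ⊥ ∨ U = cg a) ∧
    (∀ w, a w = w⁻¹ → w = 1) ∧ cg a ⊔ fx a = ⊤

end Cfsg.Agent.Helper21.GT
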