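import Mathlib
import Cfsg.Agent.Lib.GT.GTESetup
import Cfsg.Agent.Lib.GT.GTEPT2

/-!
# S3801 (Gross), block E: small lemmas for the assembly (helper21)
-/

set_option autoImplicit false

namespace Cfsg.Agent.Helper21.GT

section

variable {W : Type*} [CommGroup W]

/-- `iv` of a conjugate -/
theorem easm_iv_conj (ζ τ : MulAut W) : iv (τ * ζ * τ⁻¹) = (iv ζ).map τ.toMonoidHom := by
  ext w
  rw [Subgroup.mem_map, mem_iv]
  constructor
  · intro h
    refine ⟨τ⁻¹ w, ?_, ?_⟩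
    · rw [mem_iv]
      rw [MulAut.mul_apply, MulAut.mul_apply] at h
      have h2 := congrArg (fun v => τ⁻¹ v) h
      simp only [MulAut.inv_apply_self, map_inv] at h2
      exact h2
    · exact MulAut.apply_inv_self W τ w
  · rintro ⟨v, hv, rfl⟩
    rw [mem_iv] at hv
    show (τ * ζ * τ⁻¹) (τ v) = (τ v)⁻¹
    rw [MulAut.mul_apply, MulAut.mul_apply, MulAut.inv_apply_self, hv, map_inv]

/-- `[W, ζ] ≤ iv ζ` for an involution -/
theorem easm_cg_le_iv (ζ : MulAut W) (hζ : ζ * ζ = 1) (w : W) : ζ w * w⁻¹ ∈ iv ζ := by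
  have hzz : ζ (ζ w) = w := by
    have := congrArg (fun f : MulAut W => f w) hζ
    simpa [MulAut.mul_apply] using this
  rw [mem_iv, map_mul, map_inv, hzz, mul_inv, inv_inv, mul_comm]

/-- `cg a` is `a`-invariant -/
theorem easm_cg_inv (a : MulAut W) {x : W} (hx : x ∈ cg a) : a x ∈ cg a := by
  have h1 : a x = (a x * x⁻¹) * x := ept_aux2 _ _
  rw [h1]
  exact Subgroup.mul_mem _ (dmem_cg a x) hx

/-- two automorphisms agreeing on `I` and on `F` with `I ⊔ F = ⊤` are equal -/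
theorem easm_ext (I F : Subgroup W) (h : I ⊔ F = ⊤) (φ ψ : MulAut W)
    (hI : ∀ u ∈ I, φ u = ψ u) (hF : ∀ f ∈ F, φ f = ψ f) : φ = ψ := by
  apply MulEquiv.ext
  intro w
  have hw : w ∈ I ⊔ F := by rw [h]; exact Subgroup.mem_top w
  obtain ⟨y, hy, z, hz, rfl⟩ := Subgroup.mem_sup.mp hw
  rw [map_mul, map_mul, hI y hy, hF z hz]

end

/-- elements of a 2-subgroup have 2-power order -/
theorem easm_two_pow {X : Type*} [Group X] (D : Subgroup X) (hD : IsPGroup 2 D) {x : X}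
    (hx : x ∈ D) : ∃ k : ℕ, x ^ 2 ^ k = 1 := by
  obtain ⟨k, hk⟩ := hD ⟨x, hx⟩
  refine ⟨k, ?_⟩
  have := congrArg (Subtype.val) hk
  simpa using this

/-- the commutator of `t g t⁻¹` and `g` is a product of conjugates of `t` and `t⁻¹` -/
theorem easm_comm_mem {X : Type*} [Group X] (R : Subgroup X) [hR : R.Normal] (g t : X)
    (ht : t ∈ R) : (t * g * t⁻¹) * g * (t * g * t⁻¹)⁻¹ * g⁻¹ ∈ R := by
  have e : (t * g * t⁻¹) * g * (t * g * t⁻¹)⁻¹ * g⁻¹ =
      t * (g * t⁻¹ * g⁻¹) * (g ^ 2 * t * (g ^ 2)⁻¹) * (g * t⁻¹ * g⁻¹) := by group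
  rw [e]
  have h1 : g * t⁻¹ * g⁻¹ ∈ R := hR.conj_mem _ (inv_mem ht) g
  have h2 : g ^ 2 * t * (g ^ 2)⁻¹ ∈ R := hR.conj_mem _ ht (g ^ 2)
  exact mul_mem (mul_mem (mul_mem ht h1) h2) h1

/-- if `g` commutes with `t⁻¹ y t` then `t g t⁻¹` commutes with `y` -/
theorem easm_conj_comm {X : Type*} [Group X] (g t y : X)
    (h : g * (t⁻¹ * y * t) = (t⁻¹ * y * t) * g) : (t * g * t⁻¹) * y = y * (t * g * t⁻¹) := by
  calc (t * g * t⁻¹) * y = t * (g * (t⁻¹ * y * t)) * t⁻¹ := by group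
    _ = t * ((t⁻¹ * y * t) * g) * t⁻¹ := by rw [h]
    _ = y * (t * g * t⁻¹) := by group

end Cfsg.Agent.Helper21.GT
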