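import Mathlib
import Cfsg.Agent.Lib.GT.GTESetup

/-!
# S3801 (Gross), block E, piece GTE-BETA: the commutator pairing `β : W × W → Z(C)`.

PROOF.  `Z' := ↥(Subgroup.center ↥C)` (a `CommGroup`; finite of odd order since it embeds in `↥C`).  For `u v : W` choose
lifts by `Function.surjInv hQ.surj` and put `β u v := ⟨⁅c, d⁆, _⟩` (`hE.cl2` + unfolding `zC` shows the commutator is in the
centre of `↥C`).  Key fact: for ANY lifts `c d` of `u v` (`π c = u`, `π d = v`), `β u v = ⁅c, d⁆` — two lifts differ by an element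
of `π.ker` = centre (`hQ.ker`), which does not change commutators.  Then: bimultiplicativity from `⁅c c', d⁆ = c ⁅c', d⁆ c⁻¹ ⁅c, d⁆
= ⁅c, d⁆ ⁅c', d⁆` (central values) and the lift `c * c'` of `u * u'`; `β u u = ⁅c, c⁆ = 1`; nondegenerate: `β u v = 1` for all `v`
means the lift `c` commutes with all of `C`, `c ∈ zC C`, `u = π c = 1`; invariance: `conjNormal x c` lifts `act x u` (`hQ.eqv`) and
`⁅x c x⁻¹, x d x⁻¹⁆ = x ⁅c, d⁆ x⁻¹ = ⁅c, d⁆` by `hE.cen`.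
-/

set_option autoImplicit false

namespace Cfsg.Agent.Helper21.GT

universe u

section aux

variable {Γ : Type*} [Group Γ]

theorem gte_beta_mul_left (hcl : ∀ c d : Γ, c * d * c⁻¹ * d⁻¹ ∈ Subgroup.center Γ) (c c' d : Γ) :
    (c * c') * d * (c * c')⁻¹ * d⁻¹ = (c * d * c⁻¹ * d⁻¹) * (c' * d * c'⁻¹ * d⁻¹) := by
  have h1 := (Subgroup.mem_center_iff.mp (hcl c' d)) c
  have h2 := (Subgroup.mem_center_iff.mp (hcl c' d)) (c * d * c⁻¹ * d⁻¹)
  calc (c * c') * d * (c * c')⁻¹ * d⁻¹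
      = (c * (c' * d * c'⁻¹ * d⁻¹)) * (d * c⁻¹ * d⁻¹) := by group
    _ = ((c' * d * c'⁻¹ * d⁻¹) * c) * (d * c⁻¹ * d⁻¹) := by rw [h1]
    _ = (c' * d * c'⁻¹ * d⁻¹) * (c * d * c⁻¹ * d⁻¹) := by group
    _ = _ := h2.symm

theorem gte_beta_mul_right (hcl : ∀ c d : Γ, c * d * c⁻¹ * d⁻¹ ∈ Subgroup.center Γ) (c d d' : Γ) :
    c * (d * d') * c⁻¹ * (d * d')⁻¹ = (c * d * c⁻¹ * d⁻¹) * (c * d' * c⁻¹ * d'⁻¹) := by
  have h1 := (Subgroup.mem_center_iff.mp (hcl c d')) d⁻¹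
  calc c * (d * d') * c⁻¹ * (d * d')⁻¹
      = (c * d * c⁻¹) * ((c * d' * c⁻¹ * d'⁻¹) * d⁻¹) := by group
    _ = (c * d * c⁻¹) * (d⁻¹ * (c * d' * c⁻¹ * d'⁻¹)) := by rw [h1]
    _ = _ := by group

theorem gte_beta_central_left {z : Γ} (hz : z ∈ Subgroup.center Γ) (d : Γ) :
    z * d * z⁻¹ * d⁻¹ = 1 := by
  have h1 := (Subgroup.mem_center_iff.mp hz) d
  rw [← h1]
  group

theorem gte_beta_central_right {z : Γ} (hz : z ∈ Subgroup.center Γ) (c : Γ) :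
    c * z * c⁻¹ * z⁻¹ = 1 := by
  have h1 := (Subgroup.mem_center_iff.mp hz) c
  rw [h1]
  group

theorem gte_beta_lifts (hcl : ∀ c d : Γ, c * d * c⁻¹ * d⁻¹ ∈ Subgroup.center Γ) (c c₀ d d₀ : Γ)
    (hc : c₀⁻¹ * c ∈ Subgroup.center Γ) (hd : d₀⁻¹ * d ∈ Subgroup.center Γ) :
    c * d * c⁻¹ * d⁻¹ = c₀ * d₀ * c₀⁻¹ * d₀⁻¹ := by
  obtain ⟨z, hz, rfl⟩ : ∃ z ∈ Subgroup.center Γ, c = c₀ * z := ⟨c₀⁻¹ * c, hc, by group⟩
  obtain ⟨z', hz', rfl⟩ : ∃ z ∈ Subgroup.center Γ, d = d₀ * z := ⟨d₀⁻¹ * d, hd, by group⟩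
  rw [gte_beta_mul_left hcl, gte_beta_central_left hz, mul_one, gte_beta_mul_right hcl,
    gte_beta_central_right hz', mul_one]

end aux

theorem gte_beta_mem_center {X : Type*} [Group X] {C : Subgroup X} (c : ↥C) :
    c ∈ Subgroup.center ↥C ↔ (c : X) ∈ zC C := by
  rw [Subgroup.mem_center_iff]
  constructor
  · intro h
    refine ⟨c.2, fun e he => ?_⟩
    have h1 := h ⟨e, he⟩
    exact (congrArg Subtype.val h1).symm
  · rintro ⟨_, h⟩ e
    apply Subtype.ext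
    exact (h e e.2).symm

open scoped IsMulCommutative in
theorem exists_beta {X : Type u} [Group X] [Finite X] {W : Type u} [CommGroup W] (C : Subgroup X)
    [C.Normal] (π : ↥C →* W) (act : X →* MulAut W) (hQ : IsQuot C π act) (hE : ESet C) :
    ∃ (Z' : Type u) (_ : CommGroup Z') (_ : Finite Z') (β : W → W → Z'), Odd (Nat.card Z') ∧
      (∀ u v w, β (u * v) w = β u w * β v w) ∧ (∀ u v w, β u (v * w) = β u v * β u w) ∧
      (∀ u, β u u = 1) ∧ (∀ u, u ≠ 1 → ∃ v, β u v ≠ 1) ∧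
      (∀ (x : X) (u v : W), β (act x u) (act x v) = β u v) := by
  classical
  have hcl : ∀ c d : ↥C, c * d * c⁻¹ * d⁻¹ ∈ Subgroup.center ↥C := by
    intro c d
    rw [gte_beta_mem_center]
    exact hE.cl2 c c.2 d d.2
  let s : W → ↥C := Function.surjInv hQ.surj
  have hs : ∀ w, π (s w) = w := Function.surjInv_eq hQ.surj
  let β : W → W → ↥(Subgroup.center ↥C) := fun u v => ⟨s u * s v * (s u)⁻¹ * (s v)⁻¹, hcl _ _⟩
  have hkey : ∀ c d : ↥C,
      ((β (π c) (π d) : ↥(Subgroup.center ↥C)) : ↥C) = c * d * c⁻¹ * d⁻¹ := by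
    intro c d
    show s (π c) * s (π d) * (s (π c))⁻¹ * (s (π d))⁻¹ = _
    apply gte_beta_lifts hcl
    · rw [gte_beta_mem_center, ← hQ.ker, map_mul, map_inv, hs, inv_mul_cancel]
    · rw [gte_beta_mem_center, ← hQ.ker, map_mul, map_inv, hs, inv_mul_cancel]
  refine ⟨↥(Subgroup.center ↥C), inferInstance, inferInstance, β, ?_, ?_, ?_, ?_, ?_, ?_⟩
  · have h1 : Nat.card ↥(Subgroup.center ↥C) ∣ Nat.card ↥C := Subgroup.card_subgroup_dvd_card _
    exact Odd.of_dvd_nat hE.odd h1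
  · intro u v w
    obtain ⟨c, rfl⟩ := hQ.surj u
    obtain ⟨c', rfl⟩ := hQ.surj v
    obtain ⟨d, rfl⟩ := hQ.surj w
    apply Subtype.ext
    rw [Subgroup.coe_mul, ← map_mul, hkey, hkey, hkey]
    exact gte_beta_mul_left hcl c c' d
  · intro u v w
    obtain ⟨c, rfl⟩ := hQ.surj u
    obtain ⟨d, rfl⟩ := hQ.surj v
    obtain ⟨d', rfl⟩ := hQ.surj w
    apply Subtype.ext
    rw [Subgroup.coe_mul, ← map_mul, hkey, hkey, hkey]
    exact gte_beta_mul_right hcl c d d'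
  · intro u
    obtain ⟨c, rfl⟩ := hQ.surj u
    apply Subtype.ext
    rw [hkey, Subgroup.coe_one]
    group
  · intro u hu
    obtain ⟨c, rfl⟩ := hQ.surj u
    have hc : c ∉ Subgroup.center ↥C := by
      intro h
      apply hu
      rw [hQ.ker, ← gte_beta_mem_center]
      exact h
    rw [Subgroup.mem_center_iff] at hc
    push Not at hc
    obtain ⟨d, hd⟩ := hc
    refine ⟨π d, ?_⟩
    intro h
    apply hd
    have h2 := congrArg Subtype.val h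
    rw [hkey, Subgroup.coe_one] at h2
    have h3 : c * d = d * c := by
      calc c * d = (c * d * c⁻¹ * d⁻¹) * (d * c) := by group
        _ = d * c := by rw [h2, one_mul]
    exact h3.symm
  · intro x u v
    obtain ⟨c, rfl⟩ := hQ.surj u
    obtain ⟨d, rfl⟩ := hQ.surj v
    rw [hQ.eqv, hQ.eqv]
    apply Subtype.ext
    rw [hkey, hkey]
    apply Subtype.ext
    simp only [Subgroup.coe_mul, Subgroup.coe_inv, MulAut.conjNormal_apply]
    have hz : (c : X) * d * (c : X)⁻¹ * (d : X)⁻¹ ∈ zC C := hE.cl2 c c.2 d d.2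
    have h1 := hE.cen _ hz x
    calc x * (c : X) * x⁻¹ * (x * d * x⁻¹) * (x * c * x⁻¹)⁻¹ * (x * d * x⁻¹)⁻¹
        = (x * ((c : X) * d * (c : X)⁻¹ * (d : X)⁻¹)) * x⁻¹ := by group
      _ = (((c : X) * d * (c : X)⁻¹ * (d : X)⁻¹) * x) * x⁻¹ := by rw [h1]
      _ = _ := by group

end Cfsg.Agent.Helper21.GT
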