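import Mathlib
import Cfsg.Agent.Lib.GT.GTESetup

/-!
# S3801 (Gross), block E, piece GTE-DEC: an involutory automorphism `z` of an abelian group `W` of odd order
gives `W = C_W(z) × {w | z w = w⁻¹}`.  (Proved by helper2.)

PROOF.  Squaring is a bijection of `W` (odd order: `w = (w ^ 2) ^ ((|W| + 1) / 2)`).  For `w = v ^ 2`:
`w = (v * z v) * (v * (z v)⁻¹)`, the first factor is fixed by `z` and the second is inverted (`z (z v) = v`).
If `z w = w` and `z w = w⁻¹` then `w ^ 2 = 1`, so `w = 1` (`eq_one_of_pow_two_pow`, `k = 1`).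
-/

set_option autoImplicit false

namespace Cfsg.Agent.Helper21.GT

/-- in a finite group of odd order, `w ^ 2 = 1` forces `w = 1` -/
theorem gtedec_eq_one_of_sq {W : Type*} [Group W] [Finite W] (hodd : Odd (Nat.card W)) (w : W)
    (hw : w ^ 2 = 1) : w = 1 := by
  have h1 : orderOf w ∣ 2 := orderOf_dvd_of_pow_eq_one hw
  have h2 : orderOf w ∣ Nat.card W := orderOf_dvd_natCard w
  rcases (Nat.dvd_prime Nat.prime_two).mp h1 with h | h
  · exact orderOf_eq_one_iff.mp h
  · exfalso
    rw [h] at h2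
    exact (Nat.not_even_iff_odd.mpr hodd) (even_iff_two_dvd.mpr h2)

/-- in a finite group of odd order every element is a square -/
theorem gtedec_exists_sqrt {W : Type*} [Group W] [Finite W] (hodd : Odd (Nat.card W)) (w : W) :
    ∃ v : W, v ^ 2 = w := by
  obtain ⟨k, hk⟩ := hodd
  refine ⟨w ^ (k + 1), ?_⟩
  rw [← pow_mul]
  have : (k + 1) * 2 = Nat.card W + 1 := by omega
  rw [this, pow_succ, pow_card_eq_one', one_mul]

theorem inv_dec {W : Type*} [CommGroup W] [Finite W] (hodd : Odd (Nat.card W)) (z : MulAut W)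
    (hz : z * z = 1) : fx z ⊔ iv z = ⊤ ∧ fx z ⊓ iv z = ⊥ := by
  have hzz : ∀ v : W, z (z v) = v := by
    intro v
    have := congrArg (fun f : MulAut W => f v) hz
    simpa using this
  constructor
  · rw [eq_top_iff]
    intro w _
    obtain ⟨v, hv⟩ := gtedec_exists_sqrt hodd w
    rw [Subgroup.mem_sup]
    refine ⟨v * z v, ?_, v * (z v)⁻¹, ?_, ?_⟩
    · rw [mem_fx, map_mul, hzz, mul_comm]
    · rw [mem_iv, map_mul, map_inv, hzz, mul_inv, inv_inv, mul_comm]
    · rw [← hv, pow_two]
      calc v * z v * (v * (z v)⁻¹) = v * v * (z v * (z v)⁻¹) := by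
            rw [mul_mul_mul_comm]
        _ = v * v := by rw [mul_inv_cancel, mul_one]
  · rw [eq_bot_iff]
    rintro w ⟨h1, h2⟩
    rw [Subgroup.mem_bot]
    have h1' : z w = w := mem_fx.mp h1
    have h2' : z w = w⁻¹ := mem_iv.mp h2
    apply gtedec_eq_one_of_sq hodd
    rw [pow_two]
    have : w = w⁻¹ := h1'.symm.trans h2'
    calc w * w = w * w⁻¹ := by rw [← this]
      _ = 1 := mul_inv_cancel w

end Cfsg.Agent.Helper21.GT
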