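import Mathlib
import Cfsg.Agent.Lib.GT.GTESetup
import Cfsg.Agent.Lib.GT.GTEDec

/-!
# S3801 (Gross), block E, piece GTE-BETAIV: a nondegenerate invariant pairing stays nondegenerate on the
inverted part of an involution.

PROOF.  For `f ∈ fx ζ`, `i ∈ iv ζ`: `β i f = β (ζ i) (ζ f) = β i⁻¹ f = (β i f)⁻¹` (`β i⁻¹ f * β i f = β 1 f = 1`, and `β 1 f = 1`
from `β (1 * 1) f = β 1 f * β 1 f`), so `(β i f) ^ 2 = 1`, `β i f = 1` (odd order of `Z'`, `eq_one_of_pow_two_pow` with `k = 1`).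
Given `u ∈ iv ζ`, `u ≠ 1`, take `v` with `β u v ≠ 1`, write `v = f * i` by `inv_dec`; then `β u v = β u f * β u i = β u i`.
-/

set_option autoImplicit false

namespace Cfsg.Agent.Helper21.GT

theorem beta_nondeg_iv {W : Type*} [CommGroup W] [Finite W] (hodd : Odd (Nat.card W))
    {Z' : Type*} [CommGroup Z'] [Finite Z'] (hZ'odd : Odd (Nat.card Z')) (β : W → W → Z')
    (hβl : ∀ u v w, β (u * v) w = β u w * β v w) (hβr : ∀ u v w, β u (v * w) = β u v * β u w)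
    (hβn : ∀ u, u ≠ 1 → ∃ v, β u v ≠ 1) (ζ : MulAut W) (hζ : ζ * ζ = 1)
    (hζβ : ∀ u v, β (ζ u) (ζ v) = β u v) :
    ∀ u ∈ iv ζ, u ≠ 1 → ∃ v ∈ iv ζ, β u v ≠ 1 := by
  have hβ1 : ∀ w, β 1 w = 1 := by
    intro w
    have h := hβl 1 1 w
    rw [mul_one] at h
    have h2 : β 1 w * 1 = β 1 w * β 1 w := by rw [mul_one]; exact h
    exact (mul_left_cancel h2).symm
  have key : ∀ i ∈ iv ζ, ∀ f ∈ fx ζ, β i f = 1 := by
    intro i hi f hf
    have h1 : β i f = β i⁻¹ f := by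
      have h2 := hζβ i f
      rw [mem_iv.mp hi, mem_fx.mp hf] at h2
      exact h2.symm
    have h3 : β i⁻¹ f * β i f = 1 := by
      rw [← hβl, inv_mul_cancel, hβ1]
    have h4 : (β i f) ^ 2 ^ 1 = 1 := by
      rw [pow_one, pow_two]
      rw [← h1] at h3
      exact h3
    exact eq_one_of_pow_two_pow hZ'odd h4
  intro u hu hu1
  obtain ⟨v, hv⟩ := hβn u hu1
  have hv' : v ∈ fx ζ ⊔ iv ζ := by
    rw [(inv_dec hodd ζ hζ).1]
    exact Subgroup.mem_top v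
  obtain ⟨f, hf, i, hi, rfl⟩ := Subgroup.mem_sup.mp hv'
  refine ⟨i, hi, ?_⟩
  intro h
  apply hv
  rw [hβr, h, mul_one]
  exact key u hu f hf

end Cfsg.Agent.Helper21.GT
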