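import Mathlib
import Cfsg.Agent.Lib.GT.GTESetup

/-!
# S3801 (Gross), block E, piece GTE-CONJ (stub): the plane-torus hypotheses are invariant under conjugation in `Aut(W)`.

PROOF.  With `b = τ * a * τ⁻¹`: `b (τ v) * (τ v)⁻¹ = τ (a v * v⁻¹)`, so `cg b = (cg a).map τ.toMonoidHom` and likewise
`fx b = (fx a).map τ.toMonoidHom` (`w ∈ fx b ↔ τ⁻¹ w ∈ fx a`).  A `b`-invariant `U ≤ cg b` gives the `a`-invariant
`U.comap τ ≤ cg a` (or `U.map τ⁻¹`), apply `h.1` and map back (`τ` is a bijection).  `b w = w⁻¹ → a (τ⁻¹ w) = (τ⁻¹ w)⁻¹ →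
τ⁻¹ w = 1 → w = 1`.  `cg b ⊔ fx b = (cg a ⊔ fx a).map τ = ⊤` (`Subgroup.map_sup`, `Subgroup.map_top_of_surjective`).
Cardinalities: `Subgroup.card_map_of_injective` / `Nat.card_congr (τ.toEquiv.image _)`.
-/

set_option autoImplicit false

namespace Cfsg.Agent.Helper21.GT

theorem gteconj_apply {W : Type*} [CommGroup W] (a τ : MulAut W) (v : W) :
    (τ * a * τ⁻¹) v = τ (a (τ⁻¹ v)) := rfl

theorem gteconj_apply' {W : Type*} [CommGroup W] (a τ : MulAut W) (u : W) :
    (τ * a * τ⁻¹) (τ u) = τ (a u) := by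
  rw [gteconj_apply, MulAut.inv_apply_self]

theorem cg_conj {W : Type*} [CommGroup W] (a τ : MulAut W) :
    cg (τ * a * τ⁻¹) = (cg a).map τ.toMonoidHom := by
  ext w
  rw [mem_cg, Subgroup.mem_map]
  constructor
  · rintro ⟨v, rfl⟩
    refine ⟨a (τ⁻¹ v) * (τ⁻¹ v)⁻¹, dmem_cg a _, ?_⟩
    show τ (a (τ⁻¹ v) * (τ⁻¹ v)⁻¹) = _
    rw [map_mul, map_inv, MulAut.apply_inv_self, gteconj_apply]
  · rintro ⟨x, hx, rfl⟩
    obtain ⟨u, rfl⟩ := mem_cg.mp hx
    refine ⟨τ u, ?_⟩
    show _ = τ (a u * u⁻¹)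
    rw [gteconj_apply', map_mul, map_inv]

theorem fx_conj {W : Type*} [CommGroup W] (a τ : MulAut W) :
    fx (τ * a * τ⁻¹) = (fx a).map τ.toMonoidHom := by
  ext w
  rw [mem_fx, Subgroup.mem_map]
  constructor
  · intro h
    refine ⟨τ⁻¹ w, ?_, MulAut.apply_inv_self _ τ w⟩
    rw [mem_fx]
    rw [gteconj_apply] at h
    apply τ.injective
    rw [h, MulAut.apply_inv_self]
  · rintro ⟨x, hx, rfl⟩
    rw [mem_fx] at hx
    show (τ * a * τ⁻¹) (τ x) = τ x
    rw [gteconj_apply', hx]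

theorem isPT_conj {W : Type*} [CommGroup W] (a τ : MulAut W) (h : IsPT a) :
    IsPT (τ * a * τ⁻¹) := by
  obtain ⟨h1, h2, h3⟩ := h
  refine ⟨?_, ?_, ?_⟩
  · intro U hU hinv
    have hle : U.comap τ.toMonoidHom ≤ cg a := by
      intro x hx
      have hx' : τ x ∈ U := hx
      have := hU hx'
      rw [cg_conj, Subgroup.mem_map] at this
      obtain ⟨y, hy, hyx⟩ := this
      have : y = x := τ.injective hyx
      rwa [← this]
    have hinv' : ∀ x ∈ U.comap τ.toMonoidHom, a x ∈ U.comap τ.toMonoidHom := by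
      intro x hx
      have hx' : τ x ∈ U := hx
      show τ (a x) ∈ U
      rw [← gteconj_apply']
      exact hinv _ hx'
    rcases h1 _ hle hinv' with hb | hc
    · left
      rw [Subgroup.eq_bot_iff_forall]
      intro u hu
      have : τ⁻¹ u ∈ U.comap τ.toMonoidHom := by
        show τ (τ⁻¹ u) ∈ U
        rw [MulAut.apply_inv_self]; exact hu
      rw [hb, Subgroup.mem_bot] at this
      have h4 : τ (τ⁻¹ u) = τ 1 := by rw [this]
      rwa [MulAut.apply_inv_self, map_one] at h4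
    · right
      apply le_antisymm hU
      intro w hw
      rw [cg_conj, Subgroup.mem_map] at hw
      obtain ⟨y, hy, rfl⟩ := hw
      rw [← hc] at hy
      exact hy
  · intro w hw
    rw [gteconj_apply] at hw
    have h5 : a (τ⁻¹ w) = (τ⁻¹ w)⁻¹ := by
      apply τ.injective
      rw [hw, map_inv, MulAut.apply_inv_self]
    have h6 := h2 _ h5
    have h7 : τ (τ⁻¹ w) = τ 1 := by rw [h6]
    rwa [MulAut.apply_inv_self, map_one] at h7
  · rw [cg_conj, fx_conj, ← Subgroup.map_sup, h3]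
    exact Subgroup.map_top_of_surjective _ τ.surjective

theorem card_cg_conj {W : Type*} [CommGroup W] (a τ : MulAut W) :
    Nat.card (cg (τ * a * τ⁻¹)) = Nat.card (cg a) := by
  rw [cg_conj]
  exact (Nat.card_congr (Subgroup.equivMapOfInjective (cg a) τ.toMonoidHom τ.injective).toEquiv).symm

end Cfsg.Agent.Helper21.GT
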