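import Mathlib
import Cfsg.Prelude.Def_Local
import Cfsg.Agent.Lib.Helper22.PPrimeCore
import Cfsg.Agent.Lib.Helper4.HHDual
import Cfsg.Agent.S4227

/-!
# S3801 (Gross), block E, inner lemma E-FAITH (helper8)

In a finite solvable group `X` with `O_2(X) = 1`, let `C ≤ O_{2'}(X)` be normal.  A `2`-element `x` that centralises
both `C` and `C_{O_{2'}(X)}(C)` is trivial.
-/

set_option autoImplicit false

namespace Cfsg.Agent.Helper21.GT

open scoped commutatorElement

/-- an element of `2`-power order in a subgroup of odd order is trivial -/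
theorem faith_odd {X : Type*} [Group X] (K : Subgroup X) (hK : (Nat.card K).Coprime 2) (z : X)
    (hz : z ∈ K) (k : ℕ) (hzk : z ^ 2 ^ k = 1) : z = 1 := by
  have h1 : orderOf z ∣ 2 ^ k := orderOf_dvd_of_pow_eq_one hzk
  have h2 : orderOf z ∣ Nat.card K := Subgroup.orderOf_dvd_natCard K hz
  have h3 : Nat.Coprime (2 ^ k) (Nat.card K) := Nat.Coprime.pow_left k hK.symm
  have h4 : orderOf z ∣ Nat.gcd (2 ^ k) (Nat.card K) := Nat.dvd_gcd h1 h2
  rw [h3] at h4
  exact orderOf_eq_one_iff.1 (Nat.dvd_one.1 h4)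

/-- **E-FAITH.** -/
theorem faith {X : Type*} [Group X] [Finite X] (hsolv : Group.IsSolvable X)
    (hO2 : Cfsg.pCore 2 X = ⊥) (C : Subgroup X) [C.Normal] (hC : C ≤ Cfsg.pPrimeCore 2 X) (x : X)
    (hx2 : ∃ k, x ^ 2 ^ k = 1) (h1 : ∀ c ∈ C, x * c = c * x)
    (h2 : ∀ y ∈ Cfsg.pPrimeCore 2 X, (∀ c ∈ C, y * c = c * y) → x * y = y * x) : x = 1 := by
  have : Fact (Nat.Prime 2) := ⟨Nat.prime_two⟩
  obtain ⟨k, hk⟩ := hx2
  have hKodd : (Nat.card (Cfsg.pPrimeCore 2 X)).Coprime 2 :=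
    Cfsg.Agent.Helper22.card_pPrimeCore_coprime 2
  have hKn : (Cfsg.pPrimeCore 2 X).Normal := Cfsg.Agent.Helper22.pPrimeCore_normal 2
  -- every conjugate of `x` centralises `C`
  have hconj : ∀ y : X, ∀ c ∈ C, (y * x * y⁻¹) * c = c * (y * x * y⁻¹) := by
    intro y c hc
    have hc' : y⁻¹ * c * y ∈ C := by
      have := (inferInstance : C.Normal).conj_mem c hc y⁻¹
      simpa using this
    have e := h1 _ hc'
    calc y * x * y⁻¹ * c = y * (x * (y⁻¹ * c * y)) * y⁻¹ := by group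
      _ = y * ((y⁻¹ * c * y) * x) * y⁻¹ := by rw [e]
      _ = c * (y * x * y⁻¹) := by group
  have hcomm : ∀ y ∈ Cfsg.pPrimeCore 2 X, ⁅y, x⁆ = 1 := by
    intro y hy
    set d : X := ⁅y, x⁆ with hd
    have hdK : d ∈ Cfsg.pPrimeCore 2 X := by
      rw [hd, commutatorElement_def]
      have h3 : x * y⁻¹ * x⁻¹ ∈ Cfsg.pPrimeCore 2 X := hKn.conj_mem _ (inv_mem hy) x
      have e : y * x * y⁻¹ * x⁻¹ = y * (x * y⁻¹ * x⁻¹) := by group
      rw [e]; exact mul_mem hy h3
    have hdC : ∀ c ∈ C, d * c = c * d := by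
      intro c hc
      have e1 := hconj y c hc
      have e2 : x⁻¹ * c = c * x⁻¹ := ((show Commute x c from h1 c hc).inv_left).eq
      rw [hd, commutatorElement_def]
      calc y * x * y⁻¹ * x⁻¹ * c = y * x * y⁻¹ * (x⁻¹ * c) := by group
        _ = (y * x * y⁻¹ * c) * x⁻¹ := by rw [e2]; group
        _ = c * (y * x * y⁻¹) * x⁻¹ := by rw [e1]
        _ = c * (y * x * y⁻¹ * x⁻¹) := by group
    have hxd : x * d = d * x := h2 d hdK hdC
    have e3 : y * x * y⁻¹ = d * x := by rw [hd, commutatorElement_def]; group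
    have e4 : (d * x) ^ 2 ^ k = d ^ 2 ^ k * x ^ 2 ^ k :=
      Commute.mul_pow (show Commute d x from hxd.symm) _
    have e5 : (y * x * y⁻¹) ^ 2 ^ k = y * x ^ 2 ^ k * y⁻¹ := conj_pow
    have e6 : d ^ 2 ^ k = 1 := by
      have := e5
      rw [e3, e4, hk] at this
      simpa using this
    exact faith_odd _ hKodd d hdK k e6
  have hxc : x ∈ Subgroup.centralizer (Cfsg.pPrimeCore 2 X : Set X) := by
    rw [Subgroup.mem_centralizer_iff]
    intro y hy
    exact (commutatorElement_eq_one_iff_commute.1 (hcomm y hy)).eq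
  have hps : Cfsg.IsPSolvable 2 X := Cfsg.Agent.S4227.isPSolvable_of_isSolvable hsolv 2
  have hxK := Cfsg.Agent.Helper4.HHD.centralizer_pPrimeCore_le hps hO2 hxc
  exact faith_odd _ hKodd x hxK k hk

end Cfsg.Agent.Helper21.GT
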