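import Mathlib
import Cfsg.Agent.Lib.GT.GTEPT2

/-!
# S3801 (Gross), block E: lemma (PT), part 3: the main statement (helper21)
-/

set_option autoImplicit false

namespace Cfsg.Agent.Helper21.GT

section PT

variable {W : Type*} [CommGroup W]

theorem pt_half [Finite W] (hodd : Odd (Nat.card W)) (g g' : MulAut W)
    (hL : IsPGroup 2 ↥(Subgroup.closure ({g, g'} : Set (MulAut W))))
    (hirr : ∀ U : Subgroup W, U ≤ cg g → (∀ x ∈ U, g x ∈ U) → U = ⊥ ∨ U = cg g)
    (hirr' : ∀ U : Subgroup W, U ≤ cg g' → (∀ x ∈ U, g' x ∈ U) → U = ⊥ ∨ U = cg g')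
    (hninv : ∀ w, g w = w⁻¹ → w = 1) (hdec : cg g ⊔ fx g = ⊤)
    (y : MulAut W) (hy : y ∈ Subgroup.closure ({g, g'} : Set (MulAut W)))
    (hcen : ∀ x ∈ Subgroup.closure ({g, g'} : Set (MulAut W)),
      (y * g * y⁻¹ * g⁻¹) * x = x * (y * g * y⁻¹ * g⁻¹))
    (hne : y * g * y⁻¹ * g⁻¹ ≠ 1) :
    g * g' = g' * g ∨ cg g' ≤ cg g := by
  classical
  set L := Subgroup.closure ({g, g'} : Set (MulAut W)) with hLdef
  have hgL : g ∈ L := Subgroup.subset_closure (Set.mem_insert g _)
  have hg'L : g' ∈ L := Subgroup.subset_closure (Set.mem_insert_of_mem g rfl)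
  set c := y * g * y⁻¹ * g⁻¹ with hc
  have hcL : c ∈ L :=
    L.mul_mem (L.mul_mem (L.mul_mem hy hgL) (L.inv_mem hy)) (L.inv_mem hgL)
  obtain ⟨k, hk⟩ := (IsPGroup.iff_orderOf.mp hL) ⟨c, hcL⟩
  rw [Subgroup.orderOf_mk] at hk
  have hk0 : k ≠ 0 := by
    rintro rfl
    rw [pow_zero, orderOf_eq_one_iff] at hk
    exact hne hk
  obtain ⟨k', rfl⟩ : ∃ k', k = k' + 1 := ⟨k - 1, by omega⟩
  set z := c ^ 2 ^ k' with hz
  have hz1 : z ≠ 1 := by
    rw [hz]
    apply pow_ne_one_of_lt_orderOf (by positivity)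
    rw [hk]
    exact Nat.pow_lt_pow_right (by norm_num) (by omega)
  have hzz : z * z = 1 := by
    rw [hz, ← pow_add, ← two_mul, ← pow_succ', ← hk]
    exact pow_orderOf_eq_one c
  have hzL : z ∈ L := L.pow_mem hcL _
  have hzg : z * g = g * z := ((show Commute c g from hcen g hgL).pow_left _).eq
  have hzg' : z * g' = g' * z := ((show Commute c g' from hcen g' hg'L).pow_left _).eq
  set y₁ := y ^ 2 ^ k' with hy₁
  have hy₁L : y₁ ∈ L := L.pow_mem hy _
  have hcomm : y₁ * g * y₁⁻¹ * g⁻¹ = z := comm_pow_of_central y g (hcen y hy) _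
  have hF1 : ∀ w, z w * w⁻¹ ∈ cg g ⊔ cg g' := fun w => ept_F1 g g' hzL w
  rcases ept_F3 g z hzz hzg hirr with hs | hs <;> rcases ept_F3 g' z hzz hzg' hirr' with hs' | hs'
  · -- (+,+)
    exfalso
    apply hz1
    apply ept_F2 hodd (cg g ⊔ cg g') z 1 (by rw [pow_one, pow_two]; exact hzz) hF1
    intro u hu
    have hle : cg g ⊔ cg g' ≤ fx z :=
      sup_le (fun i hi => mem_fx.mpr (hs i hi)) (fun i hi => mem_fx.mpr (hs' i hi))
    exact mem_fx.mp (hle hu)
  · left
    exact ept_F4 hodd g g' z hzg hzg' hs hs'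
  · left
    exact (ept_F4 hodd g' g z hzg' hzg hs' hs).symm
  · right
    have hle : cg g ⊔ cg g' ≤ iv z :=
      sup_le (fun i hi => mem_iv.mpr (hs i hi)) (fun i hi => mem_iv.mpr (hs' i hi))
    have hinvU : ∀ u ∈ cg g ⊔ cg g', (y₁ * g * y₁⁻¹ * g⁻¹) u = u⁻¹ := by
      intro u hu
      rw [hcomm]
      exact mem_iv.mp (hle hu)
    intro b hb
    have hbU : b ∈ cg g ⊔ cg g' := Subgroup.mem_sup_right hb
    have hbtop : b ∈ cg g ⊔ fx g := by rw [hdec]; exact Subgroup.mem_top b
    obtain ⟨i, hi, f, hf, hif⟩ := Subgroup.mem_sup.mp hbtop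
    have hfU : f ∈ cg g ⊔ cg g' := by
      have : f = i⁻¹ * b := by rw [← hif]; group
      rw [this]
      exact Subgroup.mul_mem _ (Subgroup.inv_mem _ (Subgroup.mem_sup_left hi)) hbU
    have hf1 : f = 1 := ept_F5 g g' y₁ hy₁L hinvU hninv hfU (mem_fx.mp hf)
    rw [← hif, hf1, mul_one]
    exact hi

/-- **Lemma (PT).** Two "plane tori" `g, g'` generating a 2-group of automorphisms of an abelian group of odd
order have the same commutator subgroup or commute. -/
theorem pt_main [Finite W] (hodd : Odd (Nat.card W)) (g g' : MulAut W)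
    (hL : IsPGroup 2 ↥(Subgroup.closure ({g, g'} : Set (MulAut W))))
    (hirr : ∀ U : Subgroup W, U ≤ cg g → (∀ x ∈ U, g x ∈ U) → U = ⊥ ∨ U = cg g)
    (hirr' : ∀ U : Subgroup W, U ≤ cg g' → (∀ x ∈ U, g' x ∈ U) → U = ⊥ ∨ U = cg g')
    (hninv : ∀ w, g w = w⁻¹ → w = 1) (hninv' : ∀ w, g' w = w⁻¹ → w = 1)
    (hdec : cg g ⊔ fx g = ⊤) (hdec' : cg g' ⊔ fx g' = ⊤)
    (hcard : Nat.card (cg g) = Nat.card (cg g')) :
    cg g = cg g' ∨ g * g' = g' * g := by
  classical
  by_cases hab : g * g' = g' * g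
  · exact Or.inr hab
  set L := Subgroup.closure ({g, g'} : Set (MulAut W)) with hLdef
  have hgL : g ∈ L := Subgroup.subset_closure (Set.mem_insert g _)
  have hg'L : g' ∈ L := Subgroup.subset_closure (Set.mem_insert_of_mem g rfl)
  have : Finite (MulAut W) := Finite.of_injective (fun f : MulAut W => (f : W → W))
    (fun f h hfh => MulEquiv.ext (fun w => congrFun hfh w))
  -- the centre of L is proper
  have hcen_ne : Subgroup.center ↥L ≠ ⊤ := by
    intro htop
    apply hab
    have h1 : (⟨g, hgL⟩ : ↥L) ∈ Subgroup.center ↥L := by rw [htop]; exact Subgroup.mem_top _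
    have h2 := Subgroup.mem_center_iff.mp h1 ⟨g', hg'L⟩
    have h3 := congrArg Subtype.val h2
    exact h3.symm
  have : Nontrivial (↥L ⧸ Subgroup.center ↥L) := by
    rw [QuotientGroup.nontrivial_iff]
    exact hcen_ne
  have hQ : IsPGroup 2 (↥L ⧸ Subgroup.center ↥L) := hL.to_quotient _
  have := hQ.center_nontrivial
  obtain ⟨⟨ybar, hybar⟩, hyne⟩ := exists_ne (1 : Subgroup.center (↥L ⧸ Subgroup.center ↥L))
  obtain ⟨y, rfl⟩ := QuotientGroup.mk_surjective ybar
  have hy_not : y ∉ Subgroup.center ↥L := by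
    intro h
    apply hyne
    apply Subtype.ext
    exact (QuotientGroup.eq_one_iff y).mpr h
  have hy_comm : ∀ x : ↥L, y * x * y⁻¹ * x⁻¹ ∈ Subgroup.center ↥L := by
    intro x
    rw [← QuotientGroup.eq_one_iff]
    have h1 := Subgroup.mem_center_iff.mp hybar (QuotientGroup.mk x)
    rw [QuotientGroup.mk_mul, QuotientGroup.mk_mul, QuotientGroup.mk_mul, QuotientGroup.mk_inv,
      QuotientGroup.mk_inv, ← h1]
    group
  -- y does not commute with g or with g'
  have hor : (y : MulAut W) * g ≠ g * y ∨ (y : MulAut W) * g' ≠ g' * y := by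
    by_contra hcon
    rw [not_or, not_not, not_not] at hcon
    apply hy_not
    rw [Subgroup.mem_center_iff]
    intro x
    have hxc : (x : MulAut W) ∈ Subgroup.centralizer ({(y : MulAut W)} : Set (MulAut W)) := by
      have hle : Subgroup.closure ({g, g'} : Set (MulAut W)) ≤
          Subgroup.centralizer ({(y : MulAut W)} : Set (MulAut W)) := by
        rw [Subgroup.closure_le]
        rintro t (rfl | ht)
        · rw [SetLike.mem_coe, Subgroup.mem_centralizer_singleton_iff]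
          exact hcon.1.symm
        · rw [Set.mem_singleton_iff] at ht
          subst ht
          rw [SetLike.mem_coe, Subgroup.mem_centralizer_singleton_iff]
          exact hcon.2.symm
      exact hle x.2
    rw [Subgroup.mem_centralizer_singleton_iff] at hxc
    apply Subtype.ext
    rw [Subgroup.coe_mul, Subgroup.coe_mul]
    exact hxc
  have hcenval : ∀ t : MulAut W, ∀ ht : t ∈ L, ∀ x ∈ L,
      ((y : MulAut W) * t * (y : MulAut W)⁻¹ * t⁻¹) * x = x * ((y : MulAut W) * t * (y : MulAut W)⁻¹ * t⁻¹) := by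
    intro t ht x hx
    have h1 := Subgroup.mem_center_iff.mp (hy_comm ⟨t, ht⟩) ⟨x, hx⟩
    have h2 := congrArg Subtype.val h1
    exact h2.symm
  rcases hor with h | h
  · have hne : (y : MulAut W) * g * (y : MulAut W)⁻¹ * g⁻¹ ≠ 1 := by
      intro h1
      apply h
      have : (y : MulAut W) * g = ((y : MulAut W) * g * (y : MulAut W)⁻¹ * g⁻¹) * (g * y) := by group
      rw [this, h1, one_mul]
    rcases pt_half hodd g g' hL hirr hirr' hninv hdec y y.2 (hcenval g hgL) hne with h1 | h1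
    · exact Or.inr h1
    · left
      exact (Subgroup.eq_of_le_of_card_ge h1 hcard.le).symm
  · have hne : (y : MulAut W) * g' * (y : MulAut W)⁻¹ * g'⁻¹ ≠ 1 := by
      intro h1
      apply h
      have : (y : MulAut W) * g' = ((y : MulAut W) * g' * (y : MulAut W)⁻¹ * g'⁻¹) * (g' * y) := by group
      rw [this, h1, one_mul]
    have hpair : ({g', g} : Set (MulAut W)) = {g, g'} := Set.pair_comm g' g
    have hL' : IsPGroup 2 ↥(Subgroup.closure ({g', g} : Set (MulAut W))) := by rw [hpair]; exact hL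
    have hy' : (y : MulAut W) ∈ Subgroup.closure ({g', g} : Set (MulAut W)) := by rw [hpair]; exact y.2
    have hcen' : ∀ x ∈ Subgroup.closure ({g', g} : Set (MulAut W)),
        ((y : MulAut W) * g' * (y : MulAut W)⁻¹ * g'⁻¹) * x = x * ((y : MulAut W) * g' * (y : MulAut W)⁻¹ * g'⁻¹) := by
      rw [hpair]
      exact hcenval g' hg'L
    rcases pt_half hodd g' g hL' hirr' hirr hninv' hdec' y hy' hcen' hne with h1 | h1
    · exact Or.inr h1.symm
    · left
      exact Subgroup.eq_of_le_of_card_ge h1 hcard.ge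

end PT

end Cfsg.Agent.Helper21.GT
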