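import Mathlib
import Cfsg.Agent.Lib.GT.GTESetup

/-!
# S3801 (Gross), block E, piece GTE-CARD (stub): `|C⁻(t)| = |iv (act t)| * |Z(C)|`; `W` is finite of odd order.

PROOF.  `c ∈ cMinus C t ↔ c ∈ C ∧ π ⟨t c t⁻¹ c, _⟩ = 1 ↔ act t (π c) * π c = 1 ↔ π c ∈ iv (act t)` (`hQ.ker`, `hQ.eqv`,
`MulAut.conjNormal_apply`), so `cMinus C t` is the image under `Subtype.val` of `(iv (act t)).comap π`, and `zC C` is the
image of `π.ker`.  For the surjective `π`: `Nat.card ((iv (act t)).comap π) = Nat.card (iv (act t)) * Nat.card π.ker`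
(e.g. `Subgroup.card_eq_card_quotient_mul_card_subgroup` for `π.ker.subgroupOf _`, or the first isomorphism theorem
for the restriction of `π` to the comap, which is onto `iv (act t)` with kernel `π.ker`).
`W` is finite (`Finite.of_surjective π hQ.surj`) and `Nat.card W ∣ Nat.card C` (`Subgroup.card_dvd_of_surjective` /
`Nat.card_dvd_of_surjective`), so it is odd (`Odd.of_dvd_nat`).
-/

set_option autoImplicit false

namespace Cfsg.Agent.Helper21.GT

/-- `|comap π H| = |H| * |ker π|` for a surjective `π` -/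
theorem gtecard_comap {G H : Type*} [Group G] [Group H] (π : G →* H)
    (hπ : Function.Surjective π) (K : Subgroup H) :
    Nat.card (K.comap π) = Nat.card K * Nat.card π.ker := by
  have hle : π.ker ≤ K.comap π := by
    intro x hx
    rw [Subgroup.mem_comap, MonoidHom.mem_ker.mp hx]
    exact K.one_mem
  have h1 := Subgroup.relIndex_mul_relIndex (⊥ : Subgroup G) π.ker (K.comap π) bot_le hle
  rw [Subgroup.relIndex_bot_left, Subgroup.relIndex_bot_left] at h1
  have h2 : π.ker.relIndex (K.comap π) = Nat.card K := by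
    rw [← MonoidHom.comap_bot, Subgroup.relIndex_comap, Subgroup.relIndex_bot_left,
      Subgroup.map_comap_eq_self_of_surjective hπ]
  rw [h2] at h1
  rw [← h1, mul_comm]

theorem card_cMinus {X : Type*} [Group X] [Finite X] {W : Type*} [CommGroup W] (C : Subgroup X)
    [C.Normal] (π : ↥C →* W) (act : X →* MulAut W) (hQ : IsQuot C π act) (t : X) :
    Nat.card (cMinus C t) = Nat.card (iv (act t)) * Nat.card (zC C) := by
  have h1 : cMinus C t = Subtype.val '' (((iv (act t)).comap π : Subgroup ↥C) : Set ↥C) := by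
    ext c
    constructor
    · rintro ⟨hcC, hcz⟩
      refine ⟨⟨c, hcC⟩, ?_, rfl⟩
      rw [SetLike.mem_coe, Subgroup.mem_comap]
      show act t (π ⟨c, hcC⟩) = (π ⟨c, hcC⟩)⁻¹
      rw [hQ.eqv, eq_inv_iff_mul_eq_one, ← map_mul, hQ.ker]
      rw [Subgroup.coe_mul, MulAut.conjNormal_apply]
      exact hcz
    · rintro ⟨c', hc', rfl⟩
      refine ⟨c'.2, ?_⟩
      rw [SetLike.mem_coe, Subgroup.mem_comap] at hc'
      have h2 : act t (π c') = (π c')⁻¹ := hc'
      rw [hQ.eqv, eq_inv_iff_mul_eq_one, ← map_mul, hQ.ker] at h2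
      rw [Subgroup.coe_mul, MulAut.conjNormal_apply] at h2
      exact h2
  have h2 : zC C = Subtype.val '' ((π.ker : Subgroup ↥C) : Set ↥C) := by
    ext z
    constructor
    · intro hz
      refine ⟨⟨z, hz.1⟩, ?_, rfl⟩
      rw [SetLike.mem_coe, MonoidHom.mem_ker, hQ.ker]
      exact hz
    · rintro ⟨z', hz', rfl⟩
      rw [SetLike.mem_coe, MonoidHom.mem_ker, hQ.ker] at hz'
      exact hz'
  rw [h1, h2, Nat.card_image_of_injective Subtype.val_injective,
    Nat.card_image_of_injective Subtype.val_injective]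
  exact gtecard_comap π hQ.surj (iv (act t))

theorem w_finite_odd {X : Type*} [Group X] [Finite X] {W : Type*} [CommGroup W] (C : Subgroup X)
    [C.Normal] (π : ↥C →* W) (act : X →* MulAut W) (hQ : IsQuot C π act) (hE : ESet C) :
    Finite W ∧ Odd (Nat.card W) := by
  have hfin : Finite W := Finite.of_surjective π hQ.surj
  refine ⟨hfin, ?_⟩
  have hdvd : Nat.card W ∣ Nat.card ↥C := Subgroup.card_dvd_of_surjective π hQ.surj
  exact Odd.of_dvd_nat hE.odd hdvd

end Cfsg.Agent.Helper21.GT
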