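import Mathlib
import Cfsg.Agent.Lib.GT.GTESetup
import Cfsg.Agent.Lib.GT.GTEDec

/-!
# S3801 (Gross), block E, piece GTE-CG (stub): `[W, a] = {w | ζ w = w⁻¹}` when the involution `ζ` commutes with `a` and
has the same fixed points.

PROOF.  `fx a = fx ζ` is `hfix, hfix'` (`mem_fx`).  `iv ζ` is `a`-invariant (`ζ (a w) = a (ζ w) = a w⁻¹`).  By `inv_dec`
every `w` is `f * i` with `f ∈ fx ζ`, `i ∈ iv ζ`; `a w * w⁻¹ = a i * i⁻¹ ∈ iv ζ` (as `a f = f`): `cg a ≤ iv ζ`.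
The map `i ↦ a i * i⁻¹` of `iv ζ` to itself is injective (`a i i⁻¹ = a j j⁻¹ → a (i j⁻¹) = i j⁻¹ → i j⁻¹ ∈ fx a ⊓ iv ζ = ⊥`),
hence surjective (`Finite.injective_iff_surjective`): `iv ζ ≤ cg a`.
-/

set_option autoImplicit false

namespace Cfsg.Agent.Helper21.GT

theorem cg_eq_iv {W : Type*} [CommGroup W] [Finite W] (hodd : Odd (Nat.card W)) (a ζ : MulAut W)
    (hζ : ζ * ζ = 1) (hc : ζ * a = a * ζ) (hfix : ∀ w, ζ w = w → a w = w)
    (hfix' : ∀ w, a w = w → ζ w = w) : cg a = iv ζ ∧ fx a = fx ζ := by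
  have hfx : fx a = fx ζ := by
    ext w; rw [mem_fx, mem_fx]; exact ⟨hfix' w, hfix w⟩
  obtain ⟨hsup, hinf⟩ := inv_dec hodd ζ hζ
  have hcomm : ∀ w, ζ (a w) = a (ζ w) := by
    intro w
    have := congrArg (fun f : MulAut W => f w) hc
    simpa [MulAut.mul_apply] using this
  have hd : ∀ i ∈ iv ζ, dHom a i ∈ iv ζ := by
    intro i hi
    rw [mem_iv] at hi ⊢
    rw [dHom_apply, map_mul, map_inv, hcomm, hi, map_inv, mul_inv, inv_inv]
  refine ⟨?_, hfx⟩
  apply le_antisymm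
  · intro w hw
    obtain ⟨v, rfl⟩ := mem_cg.mp hw
    have hv : v ∈ fx ζ ⊔ iv ζ := by rw [hsup]; trivial
    obtain ⟨f, hf, i, hi, rfl⟩ := Subgroup.mem_sup.mp hv
    have hf' : dHom a f = 1 := by
      have : f ∈ fx a := by rw [hfx]; exact hf
      exact this
    have h1 : a (f * i) * (f * i)⁻¹ = dHom a i := by
      rw [← dHom_apply, map_mul, hf', one_mul]
    rw [h1]
    exact hd i hi
  · let φ : ↥(iv ζ) → ↥(iv ζ) := fun i => ⟨dHom a i.1, hd i.1 i.2⟩
    have hinj : Function.Injective φ := by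
      intro i j hij
      have h1 : dHom a i.1 = dHom a j.1 := congrArg Subtype.val hij
      have h2 : dHom a (i.1 * j.1⁻¹) = 1 := by
        rw [map_mul, map_inv, h1, mul_inv_cancel]
      have h3 : i.1 * j.1⁻¹ ∈ fx ζ ⊓ iv ζ := by
        refine ⟨?_, (iv ζ).mul_mem i.2 ((iv ζ).inv_mem j.2)⟩
        rw [← hfx]
        exact h2
      rw [hinf, Subgroup.mem_bot] at h3
      exact Subtype.ext (mul_inv_eq_one.mp h3)
    have hsurj : Function.Surjective φ := Finite.injective_iff_surjective.mp hinj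
    intro w hw
    obtain ⟨i, hi⟩ := hsurj ⟨w, hw⟩
    have h4 : dHom a i.1 = w := congrArg Subtype.val hi
    exact mem_cg.mpr ⟨i.1, h4⟩

end Cfsg.Agent.Helper21.GT
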