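import Mathlib
import Cfsg.Agent.Lib.GT.GTESetup

/-!
# S3801 (Gross), block E, piece GTE-FX (stub): `g` fixes every point of `W` fixed by the involution `g0`.

`fix_lift`: `act g0 (π c) = π c` means `g0 c g0⁻¹ = c z` with `z ∈ zC C` (`hQ.eqv`, `hQ.ker` applied to
`c⁻¹ * conjNormal g0 c`); `z` is central in `X`, so `c = g0² c g0⁻² = c z²`, `z² = 1`, `z = 1` (`z ∈ C` of odd order:
`orderOf z ∣ 2` and `orderOf z ∣ Nat.card C`).
`cent_minus`: `c ∈ C` commuting with `g0`, `d ∈ cMinus C g0`: `g0 d g0⁻¹ = d⁻¹ z`, `z ∈ zC C`.  `k := c d c⁻¹ d⁻¹ ∈ zC C` is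
central in `X`, so `k = g0 k g0⁻¹ = c (d⁻¹ z) c⁻¹ (d⁻¹ z)⁻¹ = c d⁻¹ c⁻¹ d = k⁻¹` (`k` central: `c d⁻¹ c⁻¹ d = d⁻¹ (d c d⁻¹ c⁻¹) d
= d⁻¹ k⁻¹ d = k⁻¹`), so `k² = 1`, `k = 1` (odd order).
`act_fix`: `w = π c` (`hQ.surj`), `g0 c = c g0` by `fix_lift`, `c` centralises `cMinus C g0` by `cent_minus`, so `g c = c g` by
`hcent`, so `act g (π c) = π (g c g⁻¹) = π c`.
-/

set_option autoImplicit false

namespace Cfsg.Agent.Helper21.GT

/-- an element of a subgroup of odd order with trivial square is trivial -/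
theorem gtefx_sq_one {X : Type*} [Group X] [Finite X] (C : Subgroup X) (hodd : Odd (Nat.card C))
    (z : X) (hz : z ∈ C) (h : z * z = 1) : z = 1 := by
  have h1 : orderOf z ∣ 2 := orderOf_dvd_of_pow_eq_one (by rw [pow_two]; exact h)
  have h2 : orderOf z ∣ Nat.card C := Subgroup.orderOf_dvd_natCard C hz
  have hc : Nat.Coprime 2 (Nat.card C) := Nat.coprime_two_left.mpr hodd
  have h3 : orderOf z ∣ Nat.gcd 2 (Nat.card C) := Nat.dvd_gcd h1 h2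
  rw [hc.gcd_eq_one, Nat.dvd_one] at h3
  exact orderOf_eq_one_iff.mp h3

/-- pure computation behind `fix_lift` -/
theorem gtefx_fix_aux {X : Type*} [Group X] (g0 c z : X) (hg0 : g0 * g0 = 1)
    (hz : ∀ x : X, z * x = x * z) (hzdef : z = c⁻¹ * (g0 * c * g0⁻¹)) : z * z = 1 := by
  have hg0i : g0⁻¹ = g0 := inv_eq_of_mul_eq_one_right hg0
  have h1 : g0 * c * g0⁻¹ = c * z := by
    rw [hzdef]
    group
  have h2 : g0 * (g0 * c * g0⁻¹) * g0⁻¹ = c := by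
    have h3 : g0 * (g0 * c * g0⁻¹) * g0⁻¹ = (g0 * g0) * c * (g0 * g0)⁻¹ := by group
    rw [h3, hg0]
    group
  rw [h1] at h2
  have h4 : g0 * (c * z) * g0⁻¹ = (g0 * c * g0⁻¹) * z := by
    have h5 : g0 * (c * z) * g0⁻¹ = g0 * c * (z * g0⁻¹) := by group
    rw [h5, hz g0⁻¹]
    group
  rw [h4, h1] at h2
  have h6 : c * z * z = c * (z * z) := by group
  rw [h6] at h2
  exact mul_eq_left.mp h2

theorem fix_lift {X : Type*} [Group X] [Finite X] {W : Type*} [CommGroup W] (C : Subgroup X)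
    [C.Normal] (π : ↥C →* W) (act : X →* MulAut W) (hQ : IsQuot C π act) (hE : ESet C) (g0 : X)
    (hg0 : g0 * g0 = 1) (c : ↥C) (hc : act g0 (π c) = π c) : g0 * (c : X) = (c : X) * g0 := by
  rw [hQ.eqv] at hc
  have h1 : π (c⁻¹ * MulAut.conjNormal g0 c) = 1 := by
    rw [map_mul, hc, map_inv, inv_mul_cancel]
  have h2 := (hQ.ker _).mp h1
  have h3 : ((c⁻¹ * MulAut.conjNormal g0 c : ↥C) : X) = (c : X)⁻¹ * (g0 * (c : X) * g0⁻¹) := by
    rw [Subgroup.coe_mul, Subgroup.coe_inv, MulAut.conjNormal_apply]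
  rw [h3] at h2
  have h4 := gtefx_fix_aux g0 (c : X) _ hg0 (hE.cen _ h2) rfl
  have h5 := gtefx_sq_one C hE.odd _ h2.1 h4
  have h6 : g0 * (c : X) * g0⁻¹ = (c : X) := by
    have h7 := inv_mul_eq_one.mp h5
    exact h7.symm
  calc g0 * (c : X) = g0 * (c : X) * g0⁻¹ * g0 := by group
    _ = (c : X) * g0 := by rw [h6]

/-- pure computation behind `cent_minus` -/
theorem gtefx_cent_aux {X : Type*} [Group X] (g0 c d k z : X) (hk : ∀ x : X, k * x = x * k)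
    (hz : ∀ x : X, z * x = x * z) (hcg : g0 * c = c * g0) (hkdef : k = c * d * c⁻¹ * d⁻¹)
    (hzdef : z = g0 * d * g0⁻¹ * d) : k * k = 1 := by
  have hc' : g0 * c * g0⁻¹ = c := by
    rw [hcg]
    group
  have he : g0 * d * g0⁻¹ = z * d⁻¹ := by
    rw [hzdef]
    group
  have h1 : g0 * k * g0⁻¹ = k := by
    rw [← hk g0]
    group
  have h2 : g0 * k * g0⁻¹ = (g0 * c * g0⁻¹) * (g0 * d * g0⁻¹) * (g0 * c * g0⁻¹)⁻¹ *
      (g0 * d * g0⁻¹)⁻¹ := by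
    rw [hkdef]
    group
  rw [h1, hc', he] at h2
  have h3 : c * (z * d⁻¹) * c⁻¹ * (z * d⁻¹)⁻¹ = c * d⁻¹ * c⁻¹ * d := by
    calc c * (z * d⁻¹) * c⁻¹ * (z * d⁻¹)⁻¹ = (c * z) * (d⁻¹ * c⁻¹ * d) * z⁻¹ := by group
      _ = (z * c) * (d⁻¹ * c⁻¹ * d) * z⁻¹ := by rw [hz c]
      _ = z * (c * d⁻¹ * c⁻¹ * d) * z⁻¹ := by group
      _ = (c * d⁻¹ * c⁻¹ * d) * z * z⁻¹ := by rw [hz]
      _ = c * d⁻¹ * c⁻¹ * d := by group
  rw [h3] at h2
  have h4 : c * d⁻¹ * c⁻¹ * d = d⁻¹ * k⁻¹ * d := by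
    rw [hkdef]
    group
  rw [h4] at h2
  have h5 : d⁻¹ * k⁻¹ * d = k⁻¹ := by
    have h6 : k⁻¹ * d = d * k⁻¹ := by
      have h7 := hk d
      calc k⁻¹ * d = k⁻¹ * (d * k) * k⁻¹ := by group
        _ = k⁻¹ * (k * d) * k⁻¹ := by rw [h7]
        _ = d * k⁻¹ := by group
    calc d⁻¹ * k⁻¹ * d = d⁻¹ * (k⁻¹ * d) := by group
      _ = d⁻¹ * (d * k⁻¹) := by rw [h6]
      _ = k⁻¹ := by group
  rw [h5] at h2
  calc k * k = k * k⁻¹ := by rw [← h2]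
    _ = 1 := mul_inv_cancel k

theorem cent_minus {X : Type*} [Group X] [Finite X] (C : Subgroup X) (hE : ESet C) (g0 : X)
    (c : X) (hc : c ∈ C) (hcg : g0 * c = c * g0) (d : X) (hd : d ∈ cMinus C g0) :
    c * d = d * c := by
  obtain ⟨hdC, hdz⟩ := hd
  have hkz := hE.cl2 c hc d hdC
  have h1 := gtefx_cent_aux g0 c d _ _ (hE.cen _ hkz) (hE.cen _ hdz) hcg rfl rfl
  have h2 := gtefx_sq_one C hE.odd _ hkz.1 h1
  calc c * d = (c * d * c⁻¹ * d⁻¹) * (d * c) := by group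
    _ = d * c := by rw [h2, one_mul]

theorem act_fix {X : Type*} [Group X] [Finite X] {W : Type*} [CommGroup W] (C : Subgroup X)
    [C.Normal] (π : ↥C →* W) (act : X →* MulAut W) (hQ : IsQuot C π act) (hE : ESet C) (g0 g : X)
    (hg0 : g0 * g0 = 1)
    (hcent : ∀ c ∈ C, (∀ d ∈ cMinus C g0, c * d = d * c) → g * c = c * g) :
    ∀ w, act g0 w = w → act g w = w := by
  intro w hw
  obtain ⟨c, rfl⟩ := hQ.surj w
  have h1 := fix_lift C π act hQ hE g0 hg0 c hw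
  have h2 : g * (c : X) = (c : X) * g :=
    hcent (c : X) c.2 (fun d hd => cent_minus C hE g0 (c : X) c.2 h1 d hd)
  rw [hQ.eqv]
  congr 1
  apply Subtype.ext
  rw [MulAut.conjNormal_apply, h2]
  group

end Cfsg.Agent.Helper21.GT
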