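import Mathlib
import Cfsg.Agent.Lib.GT.GTESetup

/-!
# S3801 (Gross), block E, piece GTE-IRR (stub): the plane `I = {w | a^(2^(m-1)) w = w⁻¹}` of order `q²`, `q ≡ 3 mod 4`,
has no proper nontrivial `a`-invariant subgroup.

PROOF.  `Nat.card U ∣ q ^ 2` (Lagrange in `↥I`, or `Subgroup.card_dvd_of_le`), so `Nat.card U ∈ {1, q, q²}`
(`Nat.dvd_prime_pow`).  `1`: `U = ⊥` (`Subgroup.card_eq_one`).  `q²`: `U = I` (`Subgroup.eq_of_le_of_card_ge`).
`q`: `U` is cyclic (`isCyclic_of_prime_card`), generated by `u`; `ψ := a ^ 2 ^ (m - 2)` maps `U` into `U`, so `ψ u = u ^ k`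
and `ψ (ψ u) = u ^ (k * k)`; but `ψ * ψ = a ^ 2 ^ (m - 1)` (`pow_succ`, `m ≥ 2`) inverts `u ∈ I`: `u ^ (k * k + 1) = 1`,
`q = orderOf u ∣ k * k + 1`, so `-1` is a square in `ZMod q`, contradicting `q % 4 = 3`
(`ZMod.exists_sq_eq_neg_one_iff`; `q + 1 = 2 ^ n`, `n ≥ 2` gives `q % 4 = 3`).
-/

set_option autoImplicit false

namespace Cfsg.Agent.Helper21.GT

theorem irr_of_card {W : Type*} [CommGroup W] [Finite W] (a : MulAut W) (m q n : ℕ) (hm : 2 ≤ m)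
    (hq : q.Prime) (hn : 2 ≤ n) (hqn : q + 1 = 2 ^ n)
    (hcard : Nat.card (iv (a ^ 2 ^ (m - 1))) = q ^ 2) (U : Subgroup W)
    (hU : U ≤ iv (a ^ 2 ^ (m - 1))) (hUa : ∀ x ∈ U, a x ∈ U) :
    U = ⊥ ∨ U = iv (a ^ 2 ^ (m - 1)) := by
  classical
  haveI : Fact q.Prime := ⟨hq⟩
  have hdvd : Nat.card U ∣ q ^ 2 := by rw [← hcard]; exact Subgroup.card_dvd_of_le hU
  obtain ⟨j, hj2, hj⟩ := (Nat.dvd_prime_pow hq).mp hdvd
  interval_cases j
  · left
    rw [pow_zero] at hj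
    exact Subgroup.card_eq_one.mp hj
  · exfalso
    have hUq : Nat.card ↥U = q := by simpa using hj
    haveI : IsCyclic ↥U := isCyclic_of_prime_card hUq
    obtain ⟨u, hu⟩ := IsCyclic.exists_generator (α := ↥U)
    have hord : orderOf u = q := by rw [orderOf_eq_card_of_forall_mem_zpowers hu, hUq]
    have hpow : ∀ k : ℕ, ∀ x ∈ U, (a ^ k) x ∈ U := by
      intro k
      induction k with
      | zero => intro x hx; simpa using hx
      | succ k ih =>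
        intro x hx
        rw [pow_succ, MulAut.mul_apply]
        exact ih _ (hUa x hx)
    have hψψ : a ^ 2 ^ (m - 2) * a ^ 2 ^ (m - 2) = a ^ 2 ^ (m - 1) := by
      rw [← pow_add, ← two_mul, ← pow_succ']
      congr 2
      omega
    have hψu : (a ^ 2 ^ (m - 2)) (u : W) ∈ U := hpow _ _ u.2
    obtain ⟨k, hk⟩ := Subgroup.mem_zpowers_iff.mp (hu ⟨(a ^ 2 ^ (m - 2)) (u : W), hψu⟩)
    have hk' : (u : W) ^ k = (a ^ 2 ^ (m - 2)) (u : W) := by
      have := congrArg Subtype.val hk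
      simpa using this
    have h2 : (a ^ 2 ^ (m - 2)) ((a ^ 2 ^ (m - 2)) (u : W)) = (u : W) ^ (k * k) := by
      rw [← hk', map_zpow, ← hk', ← zpow_mul]
    have h3 : (a ^ 2 ^ (m - 1)) (u : W) = (u : W)⁻¹ := hU u.2
    rw [← hψψ, MulAut.mul_apply, h2] at h3
    have h4 : (u : W) ^ (k * k + 1) = 1 := by rw [zpow_add_one, h3, inv_mul_cancel]
    have h5 : ((orderOf (u : W) : ℕ) : ℤ) ∣ k * k + 1 := orderOf_dvd_iff_zpow_eq_one.mpr h4
    rw [Subgroup.orderOf_coe, hord] at h5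
    have h6 : ((k * k + 1 : ℤ) : ZMod q) = 0 := (ZMod.intCast_zmod_eq_zero_iff_dvd _ q).mpr h5
    push_cast at h6
    have h7 : IsSquare (-1 : ZMod q) := ⟨(k : ZMod q), (eq_neg_of_add_eq_zero_left h6).symm⟩
    have h8 : q % 4 ≠ 3 := ZMod.exists_sq_eq_neg_one_iff.mp h7
    apply h8
    obtain ⟨n', rfl⟩ : ∃ n', n = n' + 2 := ⟨n - 2, by omega⟩
    rw [pow_add] at hqn
    norm_num at hqn
    omega
  · right
    exact Subgroup.eq_of_le_of_card_ge hU (by rw [hcard, hj])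

end Cfsg.Agent.Helper21.GT
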