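import Mathlib
import Cfsg.Agent.Lib.GT.GTESetup
import Cfsg.Agent.Lib.GT.GTEDec
import Cfsg.Agent.Lib.GT.GTECard
import Cfsg.Agent.Lib.GT.GTEFx
import Cfsg.Agent.Lib.GT.GTECg
import Cfsg.Agent.Lib.GT.GTEIrr

/-!
# S3801 (Gross), block E: `act g` is a plane torus on `W = C / Z(C)` (helper21)
-/

set_option autoImplicit false

namespace Cfsg.Agent.Helper21.GT

/-- a fixed point of `a` is a fixed point of every power of `a` -/
theorem ept_pow_fix {W : Type*} [CommGroup W] (a : MulAut W) (w : W) (h : a w = w) (k : ℕ) :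
    (a ^ k) w = w := by
  induction k with
  | zero => rw [pow_zero, MulAut.one_apply]
  | succ k ih => rw [pow_succ, MulAut.mul_apply, h, ih]

theorem ept_two_pow_pred (m : ℕ) (hm : 2 ≤ m) : 2 ^ (m - 1) = 2 * 2 ^ (m - 2) := by
  obtain ⟨j, rfl⟩ : ∃ j, m = j + 2 := ⟨m - 2, by omega⟩
  have h1 : j + 2 - 1 = j + 1 := by omega
  have h2 : j + 2 - 2 = j := by omega
  rw [h1, h2, pow_succ, mul_comm]

theorem ept_two_pow_add (m : ℕ) (hm : 1 ≤ m) : 2 ^ (m - 1) + 2 ^ (m - 1) = 2 ^ m := by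
  obtain ⟨j, rfl⟩ : ∃ j, m = j + 1 := ⟨m - 1, by omega⟩
  have h1 : j + 1 - 1 = j := by omega
  rw [h1, pow_succ]
  ring

/-- **`act g` is a plane torus.** -/
theorem e_pt {X : Type*} [Group X] [Finite X] {W : Type*} [CommGroup W] [Finite W]
    (hWodd : Odd (Nat.card W)) (C : Subgroup X) [C.Normal] (π : ↥C →* W) (act : X →* MulAut W)
    (hQ : IsQuot C π act) (hE : ESet C) (g : X) (m q n : ℕ) (hm : 2 ≤ m) (hgm : g ^ 2 ^ m = 1)
    (hq : q.Prime) (hn : 2 ≤ n) (hqn : q + 1 = 2 ^ n)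
    (hcard : Nat.card (cMinus C (g ^ 2 ^ (m - 1))) = q ^ 2 * Nat.card (zC C))
    (hcent : ∀ c ∈ C, (∀ d ∈ cMinus C (g ^ 2 ^ (m - 1)), c * d = d * c) → g * c = c * g) :
    IsPT (act g) ∧ cg (act g) = iv (act (g ^ 2 ^ (m - 1))) ∧
      fx (act g) = fx (act (g ^ 2 ^ (m - 1))) ∧ Nat.card (iv (act (g ^ 2 ^ (m - 1)))) = q ^ 2 := by
  set a := act g with ha
  have hζa : act (g ^ 2 ^ (m - 1)) = a ^ 2 ^ (m - 1) := map_pow act g _
  have hg0 : g ^ 2 ^ (m - 1) * g ^ 2 ^ (m - 1) = 1 := by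
    rw [← pow_add, ept_two_pow_add m (by omega), hgm]
  set ζ := act (g ^ 2 ^ (m - 1)) with hζ
  have hζ2 : ζ * ζ = 1 := by
    rw [hζ, ← map_mul, hg0, map_one]
  have hc : ζ * a = a * ζ := by
    rw [hζa]
    exact (pow_mul_comm' a _)
  have hfix : ∀ w, ζ w = w → a w = w := act_fix C π act hQ hE _ g hg0 hcent
  have hfix' : ∀ w, a w = w → ζ w = w := by
    intro w hw
    rw [hζa]
    exact ept_pow_fix a w hw _
  obtain ⟨hcg, hfx⟩ := cg_eq_iv hWodd a ζ hζ2 hc hfix hfix'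
  have hcardiv : Nat.card (iv ζ) = q ^ 2 := by
    have h1 := card_cMinus C π act hQ (g ^ 2 ^ (m - 1))
    rw [hcard] at h1
    have hzpos : 0 < Nat.card (zC C) := by
      have : Nonempty (zC C) := ⟨⟨1, C.one_mem, fun c _ => by rw [one_mul, mul_one]⟩⟩
      exact Nat.card_pos
    exact (Nat.eq_of_mul_eq_mul_right hzpos h1).symm
  obtain ⟨hsup, hinf⟩ := inv_dec hWodd ζ hζ2
  refine ⟨⟨?_, ?_, ?_⟩, hcg, hfx, hcardiv⟩
  · intro U hU hUa
    rw [hcg] at hU ⊢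
    have hcard' : Nat.card (iv (a ^ 2 ^ (m - 1))) = q ^ 2 := by rw [← hζa]; exact hcardiv
    have := irr_of_card a m q n hm hq hn hqn hcard' U (by rw [← hζa]; exact hU) hUa
    rw [← hζa] at this
    exact this
  · intro w hw
    have h1 : (a ^ 2) w = w := by
      rw [pow_two, MulAut.mul_apply, hw, map_inv, hw, inv_inv]
    have h2 : ζ w = w := by
      rw [hζa, ept_two_pow_pred m hm, pow_mul]
      exact ept_pow_fix (a ^ 2) w h1 _
    have h3 : a w = w := hfix w h2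
    have h4 : w = w⁻¹ := by rw [← hw, h3]
    apply eq_one_of_pow_two_pow hWodd (k := 1)
    rw [pow_one, pow_two]
    nth_rewrite 1 [h4]
    exact inv_mul_cancel w
  · rw [hcg, hfx, sup_comm]
    exact hsup

end Cfsg.Agent.Helper21.GT
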