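import Mathlib

/-!
# S3801 (Gross), block E, piece E-SAME: two plane tori with the SAME plane `I`.

`W` finite abelian group of odd order, `I ≤ W` of order `q ^ 2`, `q = 2 ^ n - 1` prime, `β` an alternating
bimultiplicative pairing on `W`, nondegenerate on `I`; `a a'` automorphisms of `W` preserving `I` and `β`,
generating a 2-group, with `a ^ 2 ^ (m - 1)` and `a' ^ 2 ^ (m - 1)` both acting on `I` as inversion, `n ≤ m`.
Then the commutator `a' a a'⁻¹ a⁻¹` acts on `I` as `1` or as inversion.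

PROOF (helper8).  (C) `esame_fpf`: an isometry `s` of 2-power order preserving `I` with a fixed point `u0 ≠ 1` in `I` is
trivial on `I`: `N = u0^⊥ ∩ I` has order `q`, so `N = ⟨u0⟩` is fixed pointwise, `s v / v ∈ N`, and `s ^ k v = v (s v / v) ^ k`.
(B) `esame_burnside`: hence the image `P` of `⟨a, a'⟩` in `Sym(I)` has order dividing `q² - 1`, so dividing `2 ^ (n + 1)`.
(A) `esame_group`: the images `x y` of `a a'` have order `2 ^ m`, `|P| ∣ 2 ^ (m + 1)`, so `⟨x⟩`, `⟨y⟩` have index at most 2, are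
normal and contain all squares; the commutator `c` lies in `⟨y⟩`, so commutes with `y`, and `c ^ 2 = [y ^ 2, x] = 1`.
Finally an element with `c ^ 2 = 1` on `I`, nontrivial on `I`, has no fixed points by (C), and `u * c u` is fixed.
-/

set_option autoImplicit false

namespace Cfsg.Agent.Helper21.GT

/-- a cyclic subgroup of order `2 ^ m` in a group of order dividing `2 ^ (m + 1)` is normal and contains all squares -/
theorem esame_zpowers {P : Type*} [Group P] [Finite P] (z : P) (m : ℕ)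
    (hz : orderOf z = 2 ^ m) (hcard : Nat.card P ∣ 2 ^ (m + 1)) :
    (Subgroup.zpowers z).Normal ∧ ∀ w : P, w ^ 2 ∈ Subgroup.zpowers z := by
  have h1 : Nat.card (Subgroup.zpowers z) = 2 ^ m := by rw [Nat.card_zpowers, hz]
  have h2 := Subgroup.index_mul_card (Subgroup.zpowers z)
  rw [h1] at h2
  have h3 : (Subgroup.zpowers z).index * 2 ^ m ∣ 2 * 2 ^ m := by
    rw [h2, ← pow_succ']; exact hcard
  have h4 : (Subgroup.zpowers z).index ∣ 2 :=
    Nat.dvd_of_mul_dvd_mul_right (pow_pos (by norm_num) m) h3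
  rcases (Nat.dvd_prime Nat.prime_two).1 h4 with h5 | h5
  · rw [Subgroup.index_eq_one] at h5
    rw [h5]
    exact ⟨inferInstance, fun w => Subgroup.mem_top _⟩
  · exact ⟨Subgroup.normal_of_index_eq_two h5, fun w => Subgroup.sq_mem_of_index_two h5 w⟩

theorem esame_group {P : Type*} [Group P] [Finite P] (x y : P) (m : ℕ)
    (hx : orderOf x = 2 ^ m) (hy : orderOf y = 2 ^ m) (hcard : Nat.card P ∣ 2 ^ (m + 1)) :
    (y * x * y⁻¹ * x⁻¹) ^ 2 = 1 := by
  obtain ⟨hAn, hAsq⟩ := esame_zpowers x m hx hcard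
  obtain ⟨hBn, hBsq⟩ := esame_zpowers y m hy hcard
  set c : P := y * x * y⁻¹ * x⁻¹ with hc
  -- `c ∈ ⟨y⟩`
  have hcB : c ∈ Subgroup.zpowers y := by
    have h1 : x * y⁻¹ * x⁻¹ ∈ Subgroup.zpowers y :=
      hBn.conj_mem _ (inv_mem (Subgroup.mem_zpowers y)) x
    have h2 := mul_mem (Subgroup.mem_zpowers y) h1
    have e : c = y * (x * y⁻¹ * x⁻¹) := by rw [hc]; group
    rw [e]; exact h2
  have hcy : Commute c y := by
    obtain ⟨k, hk⟩ := Subgroup.mem_zpowers_iff.1 hcB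
    rw [← hk]
    exact (Commute.refl y).zpow_left k
  have hy2x : Commute (y ^ 2) x := by
    obtain ⟨k, hk⟩ := Subgroup.mem_zpowers_iff.1 (hAsq y)
    rw [← hk]
    exact (Commute.refl x).zpow_left k
  have e1 : c * y = y * c := hcy.eq
  have e2 : y * y * x = x * (y * y) := by
    have := hy2x.eq
    rwa [pow_two] at this
  calc c ^ 2 = c * (y * x * y⁻¹ * x⁻¹) := by rw [pow_two]
    _ = (c * y) * x * y⁻¹ * x⁻¹ := by group
    _ = (y * c) * x * y⁻¹ * x⁻¹ := by rw [e1]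
    _ = (y * y * x) * y⁻¹ * y⁻¹ * x⁻¹ := by rw [hc]; group
    _ = (x * (y * y)) * y⁻¹ * y⁻¹ * x⁻¹ := by rw [e2]
    _ = 1 := by group

/-- a finite group acting on a finite set such that every nonidentity element fixes exactly the point `o`
has order dividing `|Ω| - 1` -/
theorem esame_burnside {P : Type*} [Group P] [Finite P] {Ω : Type*} [MulAction P Ω] [Finite Ω] (o : Ω)
    (h : ∀ p : P, p ≠ 1 → ∀ w : Ω, p • w = w ↔ w = o) : Nat.card P ∣ Nat.card Ω - 1 := by
  classical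
  have : Fintype P := Fintype.ofFinite P
  have : Fintype Ω := Fintype.ofFinite Ω
  have hB := MulAction.sum_card_fixedBy_eq_card_orbits_mul_card_group P Ω
  have h1 : Fintype.card (MulAction.fixedBy Ω (1 : P)) = Fintype.card Ω := by
    apply Fintype.card_congr
    exact Equiv.subtypeUnivEquiv (fun w => by simp)
  have h2 : ∀ p : P, p ≠ 1 → Fintype.card (MulAction.fixedBy Ω p) = 1 := by
    intro p hp
    rw [Fintype.card_eq_one_iff]
    refine ⟨⟨o, ?_⟩, ?_⟩
    · rw [MulAction.mem_fixedBy]; exact (h p hp o).2 rfl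
    · rintro ⟨w, hw⟩
      apply Subtype.ext
      rw [MulAction.mem_fixedBy] at hw
      exact (h p hp w).1 hw
  rw [← Finset.add_sum_erase Finset.univ _ (Finset.mem_univ (1 : P)), h1] at hB
  have h3 : ∑ x ∈ (Finset.univ : Finset P).erase 1, Fintype.card (MulAction.fixedBy Ω x) =
      Fintype.card P - 1 := by
    rw [Finset.sum_congr rfl (fun x hx => h2 x (Finset.ne_of_mem_erase hx))]
    simp [Finset.card_erase_of_mem]
  rw [h3] at hB
  rw [Nat.card_eq_fintype_card, Nat.card_eq_fintype_card]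
  have hΩ : 1 ≤ Fintype.card Ω := Fintype.card_pos_iff.2 ⟨o⟩
  have hP : 1 ≤ Fintype.card P := Fintype.card_pos_iff.2 ⟨1⟩
  generalize Fintype.card (Quotient (MulAction.orbitRel P Ω)) = k at hB
  have hk1 : 1 ≤ k := by
    rcases Nat.eq_zero_or_pos k with h0 | h0
    · rw [h0] at hB; omega
    · exact h0
  refine ⟨k - 1, ?_⟩
  have : (k - 1) * Fintype.card P + Fintype.card P = k * Fintype.card P := by
    obtain ⟨k', rfl⟩ : ∃ k', k = k' + 1 := ⟨k - 1, by omega⟩
    simp [Nat.add_mul]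
  rw [mul_comm]
  omega

/-- an element of `2`-power order in a finite group of odd order is trivial -/
theorem esame_odd {W : Type*} [Group W] [Finite W] (hWodd : Odd (Nat.card W)) (t : W) (j : ℕ)
    (ht : t ^ 2 ^ j = 1) : t = 1 := by
  have h1 : orderOf t ∣ 2 ^ j := orderOf_dvd_of_pow_eq_one ht
  have h2 : orderOf t ∣ Nat.card W := orderOf_dvd_natCard t
  have h3 : Nat.Coprime (2 ^ j) (Nat.card W) :=
    Nat.Coprime.pow_left j (Nat.coprime_two_left.2 hWodd)
  have h4 : orderOf t ∣ Nat.gcd (2 ^ j) (Nat.card W) := Nat.dvd_gcd h1 h2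
  rw [h3] at h4
  exact orderOf_eq_one_iff.1 (Nat.dvd_one.1 h4)

/-- an isometry of `2`-power order with a nontrivial fixed point in the plane `I` is trivial on `I` -/
theorem esame_fpf {W : Type*} [CommGroup W] [Finite W] {Z' : Type*} [CommGroup Z']
    (hWodd : Odd (Nat.card W)) (q : ℕ) (hq : q.Prime) (I : Subgroup W) (hI : Nat.card I = q ^ 2)
    (β : W → W → Z') (hβr : ∀ u v w, β u (v * w) = β u v * β u w) (hβa : ∀ u, β u u = 1)
    (hβn : ∀ u ∈ I, u ≠ 1 → ∃ v ∈ I, β u v ≠ 1)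
    (s : MulAut W) (hsI : ∀ u ∈ I, s u ∈ I) (hsβ : ∀ u v, β (s u) (s v) = β u v)
    (j : ℕ) (hsj : s ^ 2 ^ j = 1)
    (u0 : W) (hu0 : u0 ∈ I) (hu01 : u0 ≠ 1) (hfix : s u0 = u0) : ∀ v ∈ I, s v = v := by
  have hβ1 : β u0 1 = 1 := by
    have := hβr u0 1 1
    rw [mul_one] at this
    exact (mul_eq_left.1 this.symm)
  let φ : W →* Z' := { toFun := β u0, map_one' := hβ1, map_mul' := hβr u0 }
  have hφ : ∀ v, φ v = β u0 v := fun v => rfl
  set N : Subgroup W := I ⊓ φ.ker with hN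
  have hNle : N ≤ I := inf_le_left
  have hu0N : u0 ∈ N := Subgroup.mem_inf.2 ⟨hu0, by rw [MonoidHom.mem_ker, hφ]; exact hβa u0⟩
  have hNne : N ≠ I := by
    intro h
    obtain ⟨v, hv, hv1⟩ := hβn u0 hu0 hu01
    have : v ∈ N := by rw [h]; exact hv
    exact hv1 (MonoidHom.mem_ker.1 (Subgroup.mem_inf.1 this).2)
  have hdvd : Nat.card N ∣ q ^ 2 := by rw [← hI]; exact Subgroup.card_dvd_of_le hNle
  obtain ⟨i, hi2, hi⟩ := (Nat.dvd_prime_pow hq).1 hdvd
  have hNq : Nat.card N = q := by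
    interval_cases i
    · exfalso
      rw [pow_zero] at hi
      have : N = ⊥ := Subgroup.card_eq_one.1 hi
      rw [this, Subgroup.mem_bot] at hu0N
      exact hu01 hu0N
    · rw [hi, pow_one]
    · exfalso
      apply hNne
      apply Subgroup.eq_of_le_of_card_ge hNle
      rw [hi, hI]
  have : Fact q.Prime := ⟨hq⟩
  have hfixN : ∀ t ∈ N, s t = t := by
    intro t ht
    have h1 : (⟨t, ht⟩ : ↥N) ∈ Subgroup.zpowers (⟨u0, hu0N⟩ : ↥N) := by
      apply mem_zpowers_of_prime_card hNq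
      intro h
      exact hu01 (congrArg Subtype.val h)
    obtain ⟨k, hk⟩ := Subgroup.mem_zpowers_iff.1 h1
    have hk' : u0 ^ k = t := by
      have := congrArg Subtype.val hk
      simpa using this
    rw [← hk', map_zpow, hfix]
  intro v hv
  set t : W := s v * v⁻¹ with ht
  have htN : t ∈ N := by
    refine Subgroup.mem_inf.2 ⟨mul_mem (hsI v hv) (inv_mem hv), ?_⟩
    rw [MonoidHom.mem_ker, ht, map_mul, map_inv, hφ, hφ]
    have : β u0 (s v) = β u0 v := by
      conv_lhs => rw [← hfix]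
      exact hsβ u0 v
    rw [this, mul_inv_cancel]
  have hsv : s v = v * t := by rw [ht]; simp
  have hpow : ∀ k : ℕ, (s ^ k) v = v * t ^ k := by
    intro k
    induction k with
    | zero => simp
    | succ k ih =>
      rw [pow_succ', MulAut.mul_apply, ih, map_mul, map_pow, hfixN t htN, hsv, pow_succ]
      rw [mul_assoc, mul_comm t (t ^ k)]
  have h1 := hpow (2 ^ j)
  rw [hsj, MulAut.one_apply] at h1
  have h2 : t ^ 2 ^ j = 1 := by
    have := h1.symm
    rwa [mul_eq_left] at this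
  have h3 : t = 1 := esame_odd hWodd t j h2
  rw [hsv, h3, mul_one]

theorem esame_arith (q n k : ℕ) (hn : 2 ≤ n) (hqn : q + 1 = 2 ^ n) (hk : 2 ^ k ∣ q ^ 2 - 1) :
    2 ^ k ∣ 2 ^ (n + 1) := by
  obtain ⟨n', rfl⟩ : ∃ n', n = n' + 1 := ⟨n - 1, by omega⟩
  have hn' : 1 ≤ n' := by omega
  have hpos : 1 ≤ 2 ^ n' := Nat.one_le_two_pow
  obtain ⟨t, ht⟩ : ∃ t, 2 ^ n' = t + 1 := ⟨2 ^ n' - 1, by omega⟩
  have hq2 : q = 2 * t + 1 := by rw [pow_succ] at hqn; omega
  have h1 : q ^ 2 - 1 = 4 * (t + 1) * t := by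
    rw [hq2]
    have : (2 * t + 1) ^ 2 = 4 * (t + 1) * t + 1 := by ring
    omega
  have h2 : 2 ^ (n' + 1 + 1) = 4 * (t + 1) := by
    rw [pow_succ, pow_succ, ht]; ring
  have htodd : Odd t := by
    obtain ⟨n'', rfl⟩ : ∃ n'', n' = n'' + 1 := ⟨n' - 1, by omega⟩
    rw [pow_succ] at ht
    exact ⟨2 ^ n'' - 1, by have : 1 ≤ 2 ^ n'' := Nat.one_le_two_pow; omega⟩
  rw [h1] at hk
  rw [h2]
  have hcop : Nat.Coprime (2 ^ k) t := Nat.Coprime.pow_left k (Nat.coprime_two_left.2 htodd)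
  exact hcop.dvd_of_dvd_mul_right hk

theorem e_same {W : Type*} [CommGroup W] [Finite W] {Z' : Type*} [CommGroup Z'] [Finite Z']
    (hZ'odd : Odd (Nat.card Z')) (hWodd : Odd (Nat.card W))
    (q n m : ℕ) (hq : q.Prime) (hn : 2 ≤ n) (hnm : n ≤ m) (hqn : q + 1 = 2 ^ n)
    (I : Subgroup W) (hI : Nat.card I = q ^ 2)
    (β : W → W → Z') (hβl : ∀ u v w, β (u * v) w = β u w * β v w)
    (hβr : ∀ u v w, β u (v * w) = β u v * β u w) (hβa : ∀ u, β u u = 1)
    (hβn : ∀ u ∈ I, u ≠ 1 → ∃ v ∈ I, β u v ≠ 1)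
    (a a' : MulAut W) (haI : ∀ u ∈ I, a u ∈ I) (ha'I : ∀ u ∈ I, a' u ∈ I)
    (haβ : ∀ u v, β (a u) (a v) = β u v) (ha'β : ∀ u v, β (a' u) (a' v) = β u v)
    (hP : IsPGroup 2 ↥(Subgroup.closure ({a, a'} : Set (MulAut W))))
    (hinv : ∀ u ∈ I, (a ^ 2 ^ (m - 1)) u = u⁻¹) (hinv' : ∀ u ∈ I, (a' ^ 2 ^ (m - 1)) u = u⁻¹) :
    (∀ u ∈ I, (a' * a * a'⁻¹ * a⁻¹) u = u) ∨ (∀ u ∈ I, (a' * a * a'⁻¹ * a⁻¹) u = u⁻¹) := by
  classical
  set L : Subgroup (MulAut W) := Subgroup.closure ({a, a'} : Set (MulAut W)) with hL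
  -- backward invariance of `I`
  have hback : ∀ b : MulAut W, (∀ u ∈ I, b u ∈ I) → ∀ u, b u ∈ I → u ∈ I := by
    intro b hb u hu
    let f : ↥I → ↥I := fun w => ⟨b w.1, hb w.1 w.2⟩
    have hf : Function.Injective f := by
      intro w1 w2 h
      apply Subtype.ext
      exact b.injective (congrArg Subtype.val h)
    obtain ⟨w, hw⟩ := Finite.surjective_of_injective hf ⟨b u, hu⟩
    have h1 : b w.1 = b u := congrArg Subtype.val hw
    rw [← b.injective h1]; exact w.2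
  -- all of `L` preserves `I` and `β`
  have hLprop : ∀ s ∈ L, (∀ u, u ∈ I ↔ s u ∈ I) ∧ (∀ u v, β (s u) (s v) = β u v) := by
    intro s hs
    induction hs using Subgroup.closure_induction with
    | mem x hx =>
      rcases hx with rfl | hx
      · exact ⟨fun u => ⟨haI u, hback x haI u⟩, haβ⟩
      · rw [Set.mem_singleton_iff] at hx
        subst hx
        exact ⟨fun u => ⟨ha'I u, hback x ha'I u⟩, ha'β⟩
    | one => exact ⟨fun u => Iff.rfl, fun u v => rfl⟩
    | mul x y _ _ hx hy =>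
      refine ⟨fun u => ?_, fun u v => ?_⟩
      · rw [MulAut.mul_apply]; exact (hy.1 u).trans (hx.1 (y u))
      · rw [MulAut.mul_apply, MulAut.mul_apply, hx.2, hy.2]
    | inv x _ hx =>
      refine ⟨fun u => ?_, fun u v => ?_⟩
      · have := hx.1 (x⁻¹ u)
        rw [MulAut.apply_inv_self] at this
        exact this.symm
      · have := hx.2 (x⁻¹ u) (x⁻¹ v)
        rw [MulAut.apply_inv_self, MulAut.apply_inv_self] at this
        exact this.symm
  -- elements of `L` have 2-power order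
  have hL2 : ∀ s ∈ L, ∃ j : ℕ, s ^ 2 ^ j = 1 := by
    intro s hs
    obtain ⟨j, hj⟩ := hP ⟨s, hs⟩
    refine ⟨j, ?_⟩
    have := congrArg Subtype.val hj
    simpa using this
  -- fixed-point-freeness
  have hfpf : ∀ s ∈ L, (∃ u0 ∈ I, u0 ≠ 1 ∧ s u0 = u0) → ∀ v ∈ I, s v = v := by
    intro s hs ⟨u0, hu0, hu01, hfix⟩
    obtain ⟨j, hj⟩ := hL2 s hs
    exact esame_fpf hWodd q hq I hI β hβr hβa hβn s (fun u hu => ((hLprop s hs).1 u).1 hu)
      (hLprop s hs).2 j hj u0 hu0 hu01 hfix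
  -- the action of `L` on `I`
  letI act : MulAction ↥L ↥I :=
    { smul := fun s u => ⟨(s : MulAut W) (u : W), ((hLprop s.1 s.2).1 u.1).1 u.2⟩
      one_smul := fun u => Subtype.ext (by
        show ((1 : ↥L) : MulAut W) (u : W) = u
        simp)
      mul_smul := fun s t u => Subtype.ext (by
        show ((s * t : ↥L) : MulAut W) (u : W) = (s : MulAut W) ((t : MulAut W) (u : W))
        simp) }
  let r : ↥L →* Equiv.Perm ↥I := MulAction.toPermHom ↥L ↥I
  have hr : ∀ (s : ↥L) (u : ↥I), ((r s u : ↥I) : W) = (s : MulAut W) (u : W) := fun s u => rfl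
  set P : Subgroup (Equiv.Perm ↥I) := r.range with hPdef
  have hrr : ∀ (s : ↥L) (u : ↥I), ((((r.rangeRestrict s : ↥P) : Equiv.Perm ↥I) u : ↥I) : W) =
      (s : MulAut W) (u : W) := fun s u => rfl
  have hker : ∀ s : ↥L, r.rangeRestrict s = 1 ↔ ∀ u ∈ I, (s : MulAut W) u = u := by
    intro s
    constructor
    · intro h u hu
      have h1 := hrr s ⟨u, hu⟩
      rw [h] at h1
      simpa using h1.symm
    · intro h
      apply Subtype.ext
      apply Equiv.ext
      intro u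
      apply Subtype.ext
      rw [hrr]
      simpa using h u.1 u.2
  -- `P` is fixed-point-free on `I \ {1}`
  have hPfix : ∀ p : ↥P, p ≠ 1 → ∀ w : ↥I, p • w = w ↔ w = 1 := by
    intro p hp w
    obtain ⟨s, hs⟩ := r.rangeRestrict_surjective p
    subst hs
    constructor
    · intro hw
      by_contra hw1
      apply hp
      rw [hker]
      apply hfpf s.1 s.2
      refine ⟨w.1, w.2, fun h => hw1 (Subtype.ext h), ?_⟩
      have := congrArg Subtype.val hw
      exact this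
    · rintro rfl
      apply Subtype.ext
      show (s : MulAut W) ((1 : ↥I) : W) = ((1 : ↥I) : W)
      simp
  have hdiv : Nat.card ↥P ∣ Nat.card ↥I - 1 := esame_burnside (1 : ↥I) hPfix
  have hP2 : IsPGroup 2 ↥P := hP.of_surjective r.rangeRestrict r.rangeRestrict_surjective
  obtain ⟨k, hk⟩ := IsPGroup.iff_card.1 hP2
  have hcard : Nat.card ↥P ∣ 2 ^ (m + 1) := by
    rw [hk]
    rw [hk, hI] at hdiv
    exact (esame_arith q n k hn hqn hdiv).trans (pow_dvd_pow 2 (by omega))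
  -- a nontrivial element of `I`
  have hIodd : ∀ u ∈ I, u⁻¹ = u → u = 1 := by
    intro u _ h
    apply esame_odd hWodd u 1
    rw [pow_one, pow_two]
    nth_rewrite 1 [← h]
    exact inv_mul_cancel u
  obtain ⟨u1, hu1, hu11⟩ : ∃ u1 ∈ I, u1 ≠ 1 := by
    by_contra hno
    push Not at hno
    have : I = ⊥ := (Subgroup.eq_bot_iff_forall I).2 hno
    rw [this] at hI
    simp at hI
    have := hq.pos
    have h2 : q ^ 2 = q * q := pow_two q
    nlinarith [hq.two_le]
  obtain ⟨m0, rfl⟩ : ∃ m0, m = m0 + 1 := ⟨m - 1, by omega⟩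
  rw [Nat.add_sub_cancel] at hinv hinv'
  -- orders of the images of `a`, `a'`
  have horder : ∀ (b : MulAut W) (hb : b ∈ L), (∀ u ∈ I, (b ^ 2 ^ m0) u = u⁻¹) →
      orderOf (r.rangeRestrict ⟨b, hb⟩) = 2 ^ (m0 + 1) := by
    intro b hb hbinv
    apply orderOf_eq_prime_pow
    · rw [← map_pow, hker]
      intro h
      have h1 := h u1 hu1
      have h2 : ((⟨b, hb⟩ : ↥L) ^ 2 ^ m0 : ↥L) = ⟨b ^ 2 ^ m0, pow_mem hb _⟩ := rfl
      rw [h2] at h1
      simp only at h1
      rw [hbinv u1 hu1] at h1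
      exact hu11 (hIodd u1 hu1 h1)
    · rw [← map_pow, hker]
      intro u hu
      have h2 : ((⟨b, hb⟩ : ↥L) ^ 2 ^ (m0 + 1) : ↥L) = ⟨b ^ 2 ^ (m0 + 1), pow_mem hb _⟩ := rfl
      rw [h2]
      simp only
      rw [pow_succ, pow_mul, pow_two, MulAut.mul_apply, hbinv u hu, hbinv u⁻¹ (inv_mem hu), inv_inv]
  have haL : a ∈ L := Subgroup.subset_closure (by simp)
  have ha'L : a' ∈ L := Subgroup.subset_closure (by simp)
  have hc2 := esame_group (r.rangeRestrict ⟨a, haL⟩) (r.rangeRestrict ⟨a', ha'L⟩) (m0 + 1)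
    (horder a haL hinv) (horder a' ha'L hinv') hcard
  set c : MulAut W := a' * a * a'⁻¹ * a⁻¹ with hc
  have hcL : c ∈ L := mul_mem (mul_mem (mul_mem ha'L haL) (inv_mem ha'L)) (inv_mem haL)
  have hcc : ∀ u ∈ I, c (c u) = u := by
    have h1 : r.rangeRestrict ⟨a', ha'L⟩ * r.rangeRestrict ⟨a, haL⟩ * (r.rangeRestrict ⟨a', ha'L⟩)⁻¹ *
        (r.rangeRestrict ⟨a, haL⟩)⁻¹ = r.rangeRestrict ⟨c, hcL⟩ := by
      rw [← map_inv, ← map_inv, ← map_mul, ← map_mul, ← map_mul]
      rfl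
    rw [h1, ← map_pow, hker] at hc2
    intro u hu
    have h2 := hc2 u hu
    have h3 : ((⟨c, hcL⟩ : ↥L) ^ 2 : ↥L) = ⟨c ^ 2, pow_mem hcL _⟩ := rfl
    rw [h3] at h2
    simp only at h2
    rwa [pow_two, MulAut.mul_apply] at h2
  by_cases htriv : ∀ u ∈ I, c u = u
  · exact Or.inl htriv
  · right
    intro u hu
    have hcu : c u ∈ I := ((hLprop c hcL).1 u).1 hu
    have hw : c (u * c u) = u * c u := by
      rw [map_mul, hcc u hu, mul_comm]
    by_cases hw1 : u * c u = 1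
    · exact eq_inv_of_mul_eq_one_right hw1
    · exfalso
      apply htriv
      exact hfpf c hcL ⟨u * c u, mul_mem hu hcu, hw1, hw⟩

end Cfsg.Agent.Helper21.GT
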