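import Mathlib
import Cfsg.Agent.Lib.GT.GTESetup

/-!
# S3801 (Gross), block E, piece GTE-TRIV (stub): a 2-element acting trivially on `W = C / Z(C)` centralises `C`.

PROOF.  For `c ∈ C`: `act x (π c) = π c` gives `x c x⁻¹ = c z` with `z ∈ zC C` (`hQ.eqv`, `hQ.ker` applied to
`c⁻¹ * conjNormal x c`); `z` is central in `X` (`hE.cen`), so by induction `x ^ j * c * x⁻¹ ^ j = c * z ^ j`; with
`j = 2 ^ k`: `z ^ 2 ^ k = 1`, and `z ∈ C` of odd order, so `z = 1` (`orderOf z ∣ 2 ^ k`, `orderOf z ∣ Nat.card C`, coprime).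
-/

set_option autoImplicit false

namespace Cfsg.Agent.Helper21.GT

theorem cent_of_act_one {X : Type*} [Group X] [Finite X] {W : Type*} [CommGroup W]
    (C : Subgroup X) [C.Normal] (π : ↥C →* W) (act : X →* MulAut W) (hQ : IsQuot C π act)
    (hE : ESet C) (x : X) (hx2 : ∃ k : ℕ, x ^ 2 ^ k = 1) (hx : act x = 1) :
    ∀ c ∈ C, x * c = c * x := by
  intro c hc
  obtain ⟨k, hk⟩ := hx2
  have h1 : π (MulAut.conjNormal x ⟨c, hc⟩) = π ⟨c, hc⟩ := by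
    rw [← hQ.eqv x ⟨c, hc⟩, hx]
    rfl
  have h2 : π ((⟨c, hc⟩ : ↥C)⁻¹ * MulAut.conjNormal x ⟨c, hc⟩) = 1 := by
    rw [map_mul, map_inv, h1, inv_mul_cancel]
  have hz : c⁻¹ * (x * c * x⁻¹) ∈ zC C := by
    have h3 := (hQ.ker _).1 h2
    simpa [MulAut.conjNormal_apply] using h3
  have hzc : ∀ y : X, (c⁻¹ * (x * c * x⁻¹)) * y = y * (c⁻¹ * (x * c * x⁻¹)) :=
    hE.cen _ hz
  have hxc : x * c * x⁻¹ = c * (c⁻¹ * (x * c * x⁻¹)) := by group
  have hpow : ∀ j : ℕ, x ^ j * c * (x ^ j)⁻¹ = c * (c⁻¹ * (x * c * x⁻¹)) ^ j := by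
    intro j
    induction j with
    | zero => simp
    | succ j ih =>
      have hzj : (c⁻¹ * (x * c * x⁻¹)) ^ j * x = x * (c⁻¹ * (x * c * x⁻¹)) ^ j :=
        Commute.pow_left (hzc x) j
      calc x ^ (j + 1) * c * (x ^ (j + 1))⁻¹
          = x * (x ^ j * c * (x ^ j)⁻¹) * x⁻¹ := by
            rw [pow_succ', mul_inv_rev]
            simp only [mul_assoc]
        _ = x * (c * (c⁻¹ * (x * c * x⁻¹)) ^ j) * x⁻¹ := by rw [ih]
        _ = (x * c * x⁻¹) * (x * (c⁻¹ * (x * c * x⁻¹)) ^ j * x⁻¹) := by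
            simp only [mul_assoc, inv_mul_cancel_left]
        _ = c * (c⁻¹ * (x * c * x⁻¹)) * (c⁻¹ * (x * c * x⁻¹)) ^ j := by
            rw [← hzj, mul_inv_cancel_right, ← hxc]
        _ = c * (c⁻¹ * (x * c * x⁻¹)) ^ (j + 1) := by rw [pow_succ', mul_assoc]
  have hzk : (c⁻¹ * (x * c * x⁻¹)) ^ 2 ^ k = 1 := by
    have h := hpow (2 ^ k)
    rw [hk, one_mul, inv_one, mul_one] at h
    have h' : c * (c⁻¹ * (x * c * x⁻¹)) ^ 2 ^ k = c * 1 := by rw [← h, mul_one]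
    exact mul_left_cancel h'
  have hz1 : c⁻¹ * (x * c * x⁻¹) = 1 := by
    have hzC : c⁻¹ * (x * c * x⁻¹) ∈ C := hz.1
    have ho1 : orderOf (c⁻¹ * (x * c * x⁻¹)) ∣ 2 ^ k := orderOf_dvd_of_pow_eq_one hzk
    have ho2 : orderOf (c⁻¹ * (x * c * x⁻¹)) ∣ Nat.card C := by
      have h4 := orderOf_dvd_natCard (⟨c⁻¹ * (x * c * x⁻¹), hzC⟩ : ↥C)
      rwa [Subgroup.orderOf_mk] at h4
    have hcop : Nat.Coprime (2 ^ k) (Nat.card C) := by
      apply Nat.Coprime.pow_left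
      rw [Nat.coprime_two_left]
      exact hE.odd
    have h5 : orderOf (c⁻¹ * (x * c * x⁻¹)) = 1 := by
      have h6 := Nat.dvd_gcd ho1 ho2
      rw [hcop] at h6
      exact Nat.dvd_one.1 h6
    exact orderOf_eq_one_iff.1 h5
  rw [hz1, mul_one] at hxc
  calc x * c = (x * c * x⁻¹) * x := by group
    _ = c * x := by rw [hxc]

end Cfsg.Agent.Helper21.GT
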