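import Mathlib
import Cfsg.Agent.Lib.GT.GTESetup
import Cfsg.Agent.Lib.GT.GTEPT3
import Cfsg.Agent.Lib.GT.GTEPTAct
import Cfsg.Agent.Lib.GT.GTEAsm1
import Cfsg.Agent.Lib.GT.GTEConj
import Cfsg.Agent.Lib.GT.GTEBeta
import Cfsg.Agent.Lib.GT.GTEBetaIv
import Cfsg.Agent.Lib.GT.GTETriv
import Cfsg.Agent.Lib.GT.GTEFaith
import Cfsg.Agent.Lib.GT.GTESAME
import Cfsg.Agent.Lib.Helper10.Cores
import Cfsg.Agent.Lib.Helper22.PPrimeCore

/-!
# S3801 (Gross), block E: the key step of the assembly (helper21)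

In the setting of `e_main`, if `g0 = g ^ 2 ^ (m - 1) ∉ O_{2',2}(X)` then `g` commutes with `t g t⁻¹` for every
`t ∈ D ∩ O_{2',2}(X)`, `D` a 2-subgroup containing `g`.
-/

set_option autoImplicit false

namespace Cfsg.Agent.Helper21.GT

universe u

theorem e_key {X : Type u} [Group X] [Finite X] (hsolv : Group.IsSolvable X)
    (hO2 : Cfsg.pCore 2 X = ⊥) {W : Type u} [CommGroup W] [Finite W] (hWodd : Odd (Nat.card W))
    (C : Subgroup X) [hCn : C.Normal] (π : ↥C →* W) (act : X →* MulAut W) (hQ : IsQuot C π act)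
    (hE : ESet C) (hCK : C ≤ Cfsg.pPrimeCore 2 X) (g : X) (m q n : ℕ) (hm : 2 ≤ m)
    (hgm : g ^ 2 ^ m = 1) (hq : q.Prime) (hn : 2 ≤ n) (hnm : n ≤ m) (hqn : q + 1 = 2 ^ n)
    (hcard : Nat.card (cMinus C (g ^ 2 ^ (m - 1))) = q ^ 2 * Nat.card (zC C))
    (hcentK : ∀ y ∈ Cfsg.pPrimeCore 2 X, (∀ c ∈ cMinus C (g ^ 2 ^ (m - 1)), y * c = c * y) →
      g * y = y * g)
    (hg0R : g ^ 2 ^ (m - 1) ∉ Cfsg.pPrimePCore 2 X)
    (D : Subgroup X) (hD : IsPGroup 2 D) (hgD : g ∈ D) (t : X) (htD : t ∈ D)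
    (htR : t ∈ Cfsg.pPrimePCore 2 X) : g * (t * g * t⁻¹) = (t * g * t⁻¹) * g := by
  classical
  haveI hKn : (Cfsg.pPrimeCore 2 X).Normal := Cfsg.Agent.Helper22.pPrimeCore_normal 2
  haveI hRn : (Cfsg.pPrimePCore 2 X).Normal := by
    unfold Cfsg.pPrimePCore
    exact Subgroup.Normal.comap (Cfsg.Agent.Helper10.pCore_normal 2) _
  set g0 := g ^ 2 ^ (m - 1) with hg0def
  set g' := t * g * t⁻¹ with hg'def
  set a := act g with hadef
  set τ := act t with hτdef
  set a' := act g' with ha'def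
  have ha' : a' = τ * a * τ⁻¹ := by
    rw [ha'def, hg'def, map_mul, map_mul, map_inv]
  set ζ := act g0 with hζdef
  have hζa : ζ = a ^ 2 ^ (m - 1) := map_pow act g _
  have hg0sq : g0 * g0 = 1 := by
    rw [hg0def, ← pow_add, ept_two_pow_add m (by omega), hgm]
  have hζ2 : ζ * ζ = 1 := by rw [hζdef, ← map_mul, hg0sq, map_one]
  -- `g` centralises the elements of `C` centralising `C⁻`
  have hcent : ∀ c ∈ C, (∀ d ∈ cMinus C g0, c * d = d * c) → g * c = c * g :=
    fun c hc h => hcentK c (hCK hc) h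
  obtain ⟨hPT, hcg, hfx, hcardiv⟩ :=
    e_pt hWodd C π act hQ hE g m q n hm hgm hq hn hqn hcard hcent
  have hPT' : IsPT a' := by rw [ha']; exact isPT_conj a τ hPT
  have hcard' : Nat.card (cg a) = Nat.card (cg a') := by
    rw [ha']; exact (card_cg_conj a τ).symm
  -- membership in `D`
  have hg'D : g' ∈ D := mul_mem (mul_mem htD hgD) (inv_mem htD)
  have hg0D : g0 ∈ D := pow_mem hgD _
  have hL : IsPGroup 2 ↥(Subgroup.closure ({a, a'} : Set (MulAut W))) := by
    have h1 : Subgroup.closure ({a, a'} : Set (MulAut W)) ≤ D.map act := by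
      rw [Subgroup.closure_le]
      intro b hb
      rcases hb with rfl | hb
      · exact Subgroup.mem_map_of_mem act hgD
      · rw [Set.mem_singleton_iff] at hb
        rw [hb]
        exact Subgroup.mem_map_of_mem act hg'D
    exact (hD.map act).to_le h1
  -- the commutator
  set x := g' * g * g'⁻¹ * g⁻¹ with hxdef
  have hxD : x ∈ D := mul_mem (mul_mem (mul_mem hg'D hgD) (inv_mem hg'D)) (inv_mem hgD)
  have hxR : x ∈ Cfsg.pPrimePCore 2 X := easm_comm_mem _ g t htR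
  have hactx : act x = a' * a * a'⁻¹ * a⁻¹ := by
    rw [hxdef, map_mul, map_mul, map_mul, map_inv, map_inv]
  -- elements of `C_K(C)` commute with `g`, `g'`, `g0`, `x`
  have hcKg : ∀ y ∈ Cfsg.pPrimeCore 2 X, (∀ c ∈ C, y * c = c * y) → g * y = y * g :=
    fun y hy h => hcentK y hy (fun c hc => h c hc.1)
  have hcKg' : ∀ y ∈ Cfsg.pPrimeCore 2 X, (∀ c ∈ C, y * c = c * y) → g' * y = y * g' := by
    intro y hy h
    apply easm_conj_comm
    apply hcKg
    · have := hKn.conj_mem y hy t⁻¹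
      simpa using this
    · intro c hc
      have hc' : t * c * t⁻¹ ∈ C := hCn.conj_mem c hc t
      have e := h _ hc'
      calc t⁻¹ * y * t * c = t⁻¹ * (y * (t * c * t⁻¹)) * t := by group
        _ = t⁻¹ * ((t * c * t⁻¹) * y) * t := by rw [e]
        _ = c * (t⁻¹ * y * t) := by group
  have hcKg0 : ∀ y ∈ Cfsg.pPrimeCore 2 X, (∀ c ∈ C, y * c = c * y) → g0 * y = y * g0 := by
    intro y hy h
    exact ((show Commute g y from hcKg y hy h).pow_left _).eq
  have hcKx : ∀ y ∈ Cfsg.pPrimeCore 2 X, (∀ c ∈ C, y * c = c * y) → x * y = y * x := by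
    intro y hy h
    have c1 : Commute g y := hcKg y hy h
    have c2 : Commute g' y := hcKg' y hy h
    exact (((c2.mul_left c1).mul_left c2.inv_left).mul_left c1.inv_left).eq
  -- if `act x = 1` then `x = 1`
  have hx1 : act x = 1 → x = 1 := by
    intro h
    have h1 := cent_of_act_one C π act hQ hE x (easm_two_pow D hD hxD) h
    exact faith hsolv hO2 C hCK x (easm_two_pow D hD hxD) h1 hcKx
  have hfin : x = 1 → g * g' = g' * g := by
    intro h
    rw [hxdef] at h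
    have : g' * g = g * g' := by
      have h2 : g' * g * g'⁻¹ * g⁻¹ * g * g' = 1 * g * g' := by rw [h]
      rw [one_mul] at h2
      rw [← h2]; group
    exact this.symm
  rcases pt_main hWodd a a' hL hPT.1 hPT'.1 hPT.2.1 hPT'.2.1 hPT.2.2 hPT'.2.2 hcard' with hsame | hcomm
  swap
  · -- `a` and `a'` commute
    apply hfin
    apply hx1
    rw [hactx, ← hcomm]
    group
  -- same plane
  set ζ' := τ * ζ * τ⁻¹ with hζ'def
  have hζ'act : ζ' = act (t * g0 * t⁻¹) := by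
    rw [hζ'def, map_mul, map_mul, map_inv]
  have hζ'2 : ζ' * ζ' = 1 := by
    rw [hζ'def]
    calc τ * ζ * τ⁻¹ * (τ * ζ * τ⁻¹) = τ * (ζ * ζ) * τ⁻¹ := by group
      _ = 1 := by rw [hζ2]; group
  have hζ'a' : ζ' = a' ^ 2 ^ (m - 1) := by
    rw [hζ'def, ha', hζa, conj_pow]
  have hI' : cg a' = iv ζ' := by
    rw [ha', cg_conj, hcg, hζ'def, easm_iv_conj]
  have hfx' : fx a' = fx ζ' := by
    rw [ha', fx_conj, hfx, hζ'def, fx_conj]
  have hIeq : iv ζ = iv ζ' := by rw [← hcg, ← hI', hsame]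
  -- `ζ' = ζ`
  have hζeq : ζ' = ζ := by
    have hprod : ζ' * ζ = 1 := by
      have hmem : t * g0 * t⁻¹ * g0 ∈ D :=
        mul_mem (mul_mem (mul_mem htD hg0D) (inv_mem htD)) hg0D
      obtain ⟨k, hk⟩ := easm_two_pow D hD hmem
      have hk' : (ζ' * ζ) ^ 2 ^ k = 1 := by
        rw [hζ'act, hζdef, ← map_mul, ← map_pow, hk, map_one]
      apply ept_F2 hWodd (iv ζ) (ζ' * ζ) k hk'
      · intro w
        have e : (ζ' * ζ) w * w⁻¹ = (ζ' (ζ w) * (ζ w)⁻¹) * (ζ w * w⁻¹) := by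
          rw [MulAut.mul_apply]; group
        rw [e]
        apply Subgroup.mul_mem
        · rw [hIeq]; exact easm_cg_le_iv ζ' hζ'2 _
        · exact easm_cg_le_iv ζ hζ2 _
      · intro u hu
        have hu' : u ∈ iv ζ' := by rw [← hIeq]; exact hu
        rw [MulAut.mul_apply, mem_iv.mp hu, map_inv, mem_iv.mp hu', inv_inv]
    calc ζ' = ζ' * (ζ * ζ) := by rw [hζ2, mul_one]
      _ = (ζ' * ζ) * ζ := by group
      _ = ζ := by rw [hprod, one_mul]
  -- the pairing
  obtain ⟨Z', instZ', instZ'fin, β, hZ'odd, hβl, hβr, hβa, hβn, hβinv⟩ :=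
    exists_beta C π act hQ hE
  have hβnI : ∀ u ∈ iv ζ, u ≠ 1 → ∃ v ∈ iv ζ, β u v ≠ 1 :=
    beta_nondeg_iv hWodd hZ'odd β hβl hβr hβn ζ hζ2 (fun u v => hβinv g0 u v)
  have haI : ∀ u ∈ iv ζ, a u ∈ iv ζ := by
    intro u hu
    rw [← hcg] at hu ⊢
    exact easm_cg_inv a hu
  have ha'I : ∀ u ∈ iv ζ, a' u ∈ iv ζ := by
    intro u hu
    rw [← hcg, hsame] at hu ⊢
    exact easm_cg_inv a' hu
  have hinv : ∀ u ∈ iv ζ, (a ^ 2 ^ (m - 1)) u = u⁻¹ := by
    intro u hu
    rw [← hζa]; exact mem_iv.mp hu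
  have hinv' : ∀ u ∈ iv ζ, (a' ^ 2 ^ (m - 1)) u = u⁻¹ := by
    intro u hu
    rw [← hζ'a', hζeq]; exact mem_iv.mp hu
  have hsameI := e_same hZ'odd hWodd q n m hq hn hnm hqn (iv ζ) hcardiv β hβl hβr hβa hβnI a a'
    haI ha'I (fun u v => hβinv g u v) (fun u v => hβinv g' u v) hL hinv hinv'
  -- on the fixed part
  have hsup : iv ζ ⊔ fx ζ = ⊤ := by
    have := hPT.2.2
    rw [hcg, hfx] at this
    exact this
  have hFa : ∀ f ∈ fx ζ, a f = f := fun f hf => by
    rw [← hfx] at hf; exact mem_fx.mp hf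
  have hFa' : ∀ f ∈ fx ζ, a' f = f := fun f hf => by
    rw [← hζeq, ← hfx'] at hf; exact mem_fx.mp hf
  have hFx : ∀ f ∈ fx ζ, (a' * a * a'⁻¹ * a⁻¹) f = f := by
    intro f hf
    have h1 : a⁻¹ f = f := by
      have := hFa f hf
      nth_rewrite 1 [← this]
      exact MulAut.inv_apply_self W a f
    have h2 : a'⁻¹ f = f := by
      have := hFa' f hf
      nth_rewrite 1 [← this]
      exact MulAut.inv_apply_self W a' f
    rw [MulAut.mul_apply, MulAut.mul_apply, MulAut.mul_apply, h1, h2, hFa f hf, hFa' f hf]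
  rcases hsameI with hone | hneg
  · -- `act x = 1`
    apply hfin
    apply hx1
    rw [hactx]
    apply easm_ext (iv ζ) (fx ζ) hsup
    · intro u hu; rw [hone u hu, MulAut.one_apply]
    · intro f hf; rw [hFx f hf, MulAut.one_apply]
  · -- `act x = ζ`: impossible
    exfalso
    have hxζ : act x = ζ := by
      rw [hactx]
      apply easm_ext (iv ζ) (fx ζ) hsup
      · intro u hu; rw [hneg u hu, mem_iv.mp hu]
      · intro f hf; rw [hFx f hf, mem_fx.mp hf]
    have hxg0D : x * g0 ∈ D := mul_mem hxD hg0D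
    have h1 : act (x * g0) = 1 := by rw [map_mul, hxζ, ← hζdef, hζ2]
    have h2 := cent_of_act_one C π act hQ hE (x * g0) (easm_two_pow D hD hxg0D) h1
    have h3 : ∀ y ∈ Cfsg.pPrimeCore 2 X, (∀ c ∈ C, y * c = c * y) → (x * g0) * y = y * (x * g0) := by
      intro y hy h
      exact ((show Commute x y from hcKx y hy h).mul_left (hcKg0 y hy h)).eq
    have h4 : x * g0 = 1 := faith hsolv hO2 C hCK (x * g0) (easm_two_pow D hD hxg0D) h2 h3
    apply hg0R
    have h5 : g0 = x⁻¹ := by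
      rw [eq_inv_iff_mul_eq_one]
      have : g0 * x = x⁻¹ * (x * g0) * x := by group
      rw [this, h4]; group
    rw [h5]
    exact inv_mem hxR

end Cfsg.Agent.Helper21.GT
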