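import Mathlib
import Cfsg.Prelude.Def_Solvable
import Cfsg.Prelude.Def_Local
import Cfsg.Agent.Lib.Helper24.BG101B

/-!
# S3801 (Gross), block E, piece E-SYL (stub): a 2-subgroup `D ∋ g` with `O_{2',2}(X) = O_{2'}(X) (D ∩ O_{2',2}(X))`.

PROOF.  `R = O_{2',2}(X)`, `K = O_{2'}(X)`, `M = R ⊔ zpowers g`.  The 2-subgroup `zpowers g` of `M` lies in a Sylow
2-subgroup `P` of `M` (`IsPGroup.exists_le_sylow`); `D := P.map M.subtype`.  `D ⊓ R` is a Sylow 2-subgroup of `R`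
(`R` normal in `M`), `R / K` is a 2-group and `|K|` is odd, so `|R| = |K| |D ⊓ R|`, `K ⊓ D = ⊥`, hence `R = K (D ⊓ R)`.
-/

set_option autoImplicit false

namespace Cfsg.Agent.Helper21.GT

theorem exists_D {X : Type*} [Group X] [Finite X] (g : X) (hg2 : ∃ k : ℕ, g ^ 2 ^ k = 1) :
    ∃ D : Subgroup X, IsPGroup 2 D ∧ g ∈ D ∧
      ∀ u ∈ Cfsg.pPrimePCore 2 X, ∃ k ∈ Cfsg.pPrimeCore 2 X, ∃ t ∈ D ⊓ Cfsg.pPrimePCore 2 X,
        u = k * t := by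
  haveI : Fact (Nat.Prime 2) := ⟨Nat.prime_two⟩
  obtain ⟨k0, hk0⟩ := hg2
  have hzp : IsPGroup 2 (Subgroup.zpowers g) := by
    rintro ⟨x, hx⟩
    obtain ⟨n, rfl⟩ := Subgroup.mem_zpowers_iff.mp hx
    refine ⟨k0, Subtype.ext ?_⟩
    show (g ^ n) ^ 2 ^ k0 = 1
    rw [← zpow_natCast, ← zpow_mul, mul_comm, zpow_mul, zpow_natCast, hk0, one_zpow]
  obtain ⟨Q, hQ⟩ := hzp.exists_le_sylow
  refine ⟨(Q : Subgroup X), Q.isPGroup', hQ (Subgroup.mem_zpowers g), ?_⟩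
  intro u hu
  haveI : (Cfsg.pPrimeCore 2 X).Normal := Cfsg.Agent.Helper22.pPrimeCore_normal 2
  rw [Cfsg.Agent.Helper24.BG101.pPrimePCore_eq_sup 2 Q] at hu
  have hu' : u ∈ ((Cfsg.pPrimeCore 2 X ⊔ ((Q : Subgroup X) ⊓ Cfsg.pPrimePCore 2 X) : Subgroup X) :
      Set X) := hu
  rw [Subgroup.normal_mul] at hu'
  obtain ⟨k, hk, t, ht, rfl⟩ := Set.mem_mul.1 hu'
  exact ⟨k, hk, t, ht, rfl⟩

end Cfsg.Agent.Helper21.GT
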