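import Mathlib
import Cfsg.Agent.Lib.GT.GTESetup
import Cfsg.Agent.Lib.Helper12.FrattiniAct

/-!
# S3801 (Gross), block E, piece GTE-W (stub): existence of the quotient `W = C / Z(C)` with the action of `X`.

PROOF.  `W := ↥C ⧸ Subgroup.center ↥C` (same universe as `X`), with the `CommGroup` structure
`{ (inferInstance : Group W) with mul_comm := … }` (commutators of `C` lie in `zC C`, i.e. in the centre of `↥C`:
`QuotientGroup.induction_on` twice and `QuotientGroup.eq`), `π := QuotientGroup.mk' (Subgroup.center ↥C)`,
`act := (Cfsg.Agent.Helper12.FA.autQuot (Subgroup.center ↥C)).comp MulAut.conjNormal`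
(`autQuot_mk`/`rho_mk` in `Helper12/FrattiniAct.lean` are `rfl`; the centre is `Characteristic` by instance).
`ker`: `QuotientGroup.eq_one_iff` and `Subgroup.mem_center_iff`, unfolding `zC`.
-/

set_option autoImplicit false

namespace Cfsg.Agent.Helper21.GT

universe u

theorem gtew_mem_center_iff {X : Type u} [Group X] (C : Subgroup X) (c : ↥C) :
    c ∈ Subgroup.center ↥C ↔ (c : X) ∈ zC C := by
  rw [Subgroup.mem_center_iff]
  constructor
  · intro h
    refine ⟨c.2, fun d hd => ?_⟩
    have := h ⟨d, hd⟩
    have h2 := congrArg Subtype.val this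
    simpa using h2.symm
  · intro h g
    apply Subtype.ext
    have := h.2 g.1 g.2
    simpa using this.symm

theorem exists_W {X : Type u} [Group X] (C : Subgroup X) [C.Normal] (hE : ESet C) :
    ∃ (W : Type u) (_ : CommGroup W) (π : ↥C →* W) (act : X →* MulAut W), IsQuot C π act := by
  let W := ↥C ⧸ Subgroup.center ↥C
  have hcomm : ∀ a b : W, a * b = b * a := by
    intro a b
    induction a using QuotientGroup.induction_on with
    | H a =>
      induction b using QuotientGroup.induction_on with
      | H b =>
        rw [← QuotientGroup.mk_mul, ← QuotientGroup.mk_mul]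
        apply (QuotientGroup.eq).mpr
        rw [gtew_mem_center_iff]
        have := hE.cl2 (b⁻¹ : ↥C) (b⁻¹ : ↥C).2 (a⁻¹ : ↥C) (a⁻¹ : ↥C).2
        simpa [mul_assoc] using this
  let inst : CommGroup W := { (inferInstance : Group W) with mul_comm := hcomm }
  refine ⟨W, inst, QuotientGroup.mk' (Subgroup.center ↥C),
    (Cfsg.Agent.Helper12.FA.autQuot (Subgroup.center ↥C)).comp MulAut.conjNormal, ?_⟩
  refine ⟨?_, ?_, ?_⟩
  · exact QuotientGroup.mk'_surjective _
  · intro c
    rw [← gtew_mem_center_iff]
    exact QuotientGroup.eq_one_iff c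
  · intro x c
    rfl

end Cfsg.Agent.Helper21.GT
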