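import Mathlib
import Cfsg.Agent.Lib.GT.GTDefs
import Cfsg.Agent.Lib.GT.GTEKey
import Cfsg.Agent.Lib.GT.GTEW
import Cfsg.Agent.Lib.GT.GTESYL
import Cfsg.Agent.Lib.Helper24.GrossQuad
import Cfsg.Agent.S4227

/-!
# S3801 (Gross): final statement of block E (endgame), assembled from the pieces `GTE*.lean` (helper21).
-/

set_option autoImplicit false

namespace Cfsg.Agent.Helper21.GT

universe u

/-- **Block E.** In a finite solvable group `X` with `O_2(X) = 1`, an element `g` with `g ^ 2 ^ m = 1`, `2 ≤ m`,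
having the plane-torus structure has `g ^ 2 ^ (m - 1) ∈ O_{2',2}(X)`. -/
theorem e_main {X : Type u} [Group X] [Finite X] (hsolv : Group.IsSolvable X)
    (hO2 : Cfsg.pCore 2 X = ⊥) (g : X) (m : ℕ) (hm : 2 ≤ m) (hgm : g ^ 2 ^ m = 1)
    (hP : PTOut X g m) : g ^ 2 ^ (m - 1) ∈ Cfsg.pPrimePCore 2 X := by
  by_contra hg0R
  obtain ⟨q, n, C, hq, hn, hnm, hqn, hCn, hCq, hcen, hcl2, hcard, hcentK⟩ := hP
  have : Fact (Nat.Prime 2) := ⟨Nat.prime_two⟩
  -- `q` is odd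
  have hqodd : Odd q := by
    rcases hq.eq_two_or_odd' with h | h
    · exfalso
      subst h
      have h4 : 2 ^ 2 ≤ 2 ^ n := Nat.pow_le_pow_right (by norm_num) hn
      omega
    · exact h
  have hCodd : Odd (Nat.card C) := by
    have : Fact (Nat.Prime q) := ⟨hq⟩
    obtain ⟨k, hk⟩ := IsPGroup.iff_card.mp hCq
    rw [hk]
    exact hqodd.pow
  have hE : ESet C := ⟨hcen, hcl2, hCodd⟩
  obtain ⟨W, instW, π, act, hQ⟩ := exists_W C hE
  obtain ⟨hWfin, hWodd⟩ := w_finite_odd C π act hQ hE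
  have hCK : C ≤ Cfsg.pPrimeCore 2 X :=
    Cfsg.Agent.Helper22.le_pPrimeCore 2 C hCn (Nat.coprime_two_right.mpr hCodd)
  obtain ⟨D, hD2, hgD, hDR⟩ := exists_D g ⟨m, hgm⟩
  have hps : Cfsg.IsPSolvable 2 X := Cfsg.Agent.S4227.isPSolvable_of_isSolvable hsolv 2
  have key : ∀ t ∈ D ⊓ Cfsg.pPrimePCore 2 X, g * (t * g * t⁻¹) = (t * g * t⁻¹) * g := by
    intro t ht
    exact e_key hsolv hO2 hWodd C π act hQ hE hCK g m q n hm hgm hq hn hnm hqn hcard hcentK hg0R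
      D hD2 hgD t ht.1 ht.2
  have hg2 : g ^ 2 ∈ Cfsg.pPrimePCore 2 X := by
    apply Cfsg.Agent.Helper24.GrossQuad.quad_sq_mem_of_sylow hps g (D ⊓ Cfsg.pPrimePCore 2 X) hDR
    intro t ht
    have c1 : Commute g (t * g * t⁻¹) := key t ht
    have e : g * t * g⁻¹ * t⁻¹ = g * (t * g * t⁻¹)⁻¹ := by group
    rw [e]
    exact ((Commute.refl g).mul_right c1.inv_right).eq
  apply hg0R
  have e : g ^ 2 ^ (m - 1) = (g ^ 2) ^ 2 ^ (m - 2) := by
    rw [← pow_mul, ept_two_pow_pred m hm]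
  rw [e]
  exact Subgroup.pow_mem _ hg2 _

end Cfsg.Agent.Helper21.GT
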