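import Mathlib
import Cfsg.Prelude.Def_Solvable
import Cfsg.Prelude.Def_Local
import Cfsg.Agent.Lib.Helper7.Bender
import Cfsg.Agent.Lib.Helper16.Solvable2

/-!
# S3801 (Gross), block E, piece E-NONTRIV.

If `t` centralises `O_q(X)` for every odd prime `q` then `t` centralises `F(X)` (`O_2(X) = 1`, `F(X)` is the
product of the `O_q(X)`), so `t ∈ C_X(F(X)) ≤ F(X)` (`Helper16.centralizer_fittingSubgroup_le_of_isSolvable`), and `F(X)`
has odd order (its Sylow 2-subgroup is `O_2(X) = 1`), so the 2-element `t` is `1`.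
-/

set_option autoImplicit false

namespace Cfsg.Agent.Helper21.GT

theorem nontriv {X : Type*} [Group X] [Finite X] (hsolv : Group.IsSolvable X)
    (hO2 : Cfsg.pCore 2 X = ⊥) (t : X) (ht2 : ∃ k : ℕ, t ^ 2 ^ k = 1) (ht : t ≠ 1) :
    ∃ q : ℕ, q.Prime ∧ q ≠ 2 ∧ ∃ x ∈ Cfsg.pCore q X, t * x ≠ x * t := by
  have hp2 : Fact (Nat.Prime 2) := ⟨Nat.prime_two⟩
  by_contra hcon
  apply ht
  have hall : ∀ q : ℕ, q.Prime → q ≠ 2 → ∀ x ∈ Cfsg.pCore q X, t * x = x * t := by
    intro q hq hq2 x hx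
    by_contra hne
    exact hcon ⟨q, hq, hq2, x, hx, hne⟩
  have hF : Cfsg.fittingSubgroup X ≤ Subgroup.centralizer ({t} : Set X) := by
    rw [Cfsg.Agent.Helper7.fittingSubgroup_eq_iSup_pCore]
    apply iSup_le
    intro r
    by_cases hr2 : (r : ℕ) = 2
    · rw [hr2, hO2]
      exact bot_le
    · intro x hx
      rw [Subgroup.mem_centralizer_iff]
      intro y hy
      rw [Set.mem_singleton_iff] at hy
      rw [hy]
      exact hall r r.2 hr2 x hx
  have htc : t ∈ Subgroup.centralizer (Cfsg.fittingSubgroup X : Set X) := by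
    rw [Subgroup.mem_centralizer_iff]
    intro y hy
    have h1 := hF hy
    rw [Subgroup.mem_centralizer_iff] at h1
    exact (h1 t (Set.mem_singleton t)).symm
  have htF : t ∈ Cfsg.fittingSubgroup X :=
    Cfsg.Agent.Helper16.centralizer_fittingSubgroup_le_of_isSolvable hsolv htc
  have ht2' : t ∈ Cfsg.pCore 2 X := Cfsg.Agent.Helper7.mem_pCore_of_mem_fittingSubgroup 2 htF ht2
  rw [hO2, Subgroup.mem_bot] at ht2'
  exact ht2'

end Cfsg.Agent.Helper21.GT
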