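import Mathlib
import Cfsg.Agent.Lib.GT.GTDefs
import Cfsg.Agent.Lib.S3801P.GPOutMain

/-!
# S3801 (Gross): final statement of block P (plane torus).  Proved by the assembly of block P
(`Cfsg/Agent/Lib/S3801P/GPOutMain.lean`, helper10).
-/

set_option autoImplicit false

namespace Cfsg.Agent.Helper21.GT

open Cfsg.Agent.Helper4.ThB

universe u v

/-- **Block P.** CORE situation: `H ≤ GL(V)` finite solvable irreducible over an algebraically closed field of
characteristic 2, `O_2(H) = 1`, every abelian normal subgroup of odd order scalar, `g ∈ H` tight of level `m` whose involution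
`g0 = g ^ 2 ^ (m - 1)` is not `1`.  Then the plane-torus structure `PTOut` holds in `↥H`. -/
theorem pt_out {K : Type u} [Field K] [IsAlgClosed K] [CharP K 2] {V : Type v} [AddCommGroup V]
    [Module K V] [FiniteDimensional K V] (H : Subgroup (V ≃ₗ[K] V)) [Finite H]
    (hsolv : Group.IsSolvable ↥H) (hO2 : Cfsg.pCore 2 ↥H = ⊥) (hirr : Irr (H : Set (V ≃ₗ[K] V)))
    (hsc : ∀ B : Subgroup (V ≃ₗ[K] V), B ≤ H → (∀ h ∈ H, ∀ b ∈ B, h * b * h⁻¹ ∈ B) →
      (∀ a ∈ B, ∀ b ∈ B, a * b = b * a) → Odd (Nat.card B) →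
      ∀ b ∈ B, ∃ c : K, op b = c • (1 : Module.End K V))
    (g : V ≃ₗ[K] V) (hg : g ∈ H) (m : ℕ) (hm : 1 ≤ m) (hgm : g ^ 2 ^ m = 1)
    (ht : (op g - 1) ^ (2 ^ m - 1) = 0) (hg0 : g ^ 2 ^ (m - 1) ≠ 1) :
    PTOut ↥H ⟨g, hg⟩ m :=
  Cfsg.Agent.Helper10.GrossP.pt_out_main H hsolv hirr hsc g hg m hm hgm ht hg0

end Cfsg.Agent.Helper21.GT
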