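import Mathlib
import Cfsg.Agent.Lib.GT.GTPOut
import Cfsg.Agent.Lib.GT.GTEMain

/-!
# S3801 (Gross): CORE = block P + block E (helper21).
-/

set_option autoImplicit false

namespace Cfsg.Agent.Helper21.GT

open Cfsg.Agent.Helper4.ThB

universe u v

/-- **CORE.** `H ≤ GL(V)` finite solvable irreducible over an algebraically closed field of characteristic 2 with
`O_2(H) = 1` and every abelian normal subgroup of odd order scalar; `g ∈ H` with `g ^ 2 ^ m = 1` and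
`(g - 1) ^ (2 ^ m - 1) = 0`.  Then `g ^ 2 ^ (m - 1) ∈ O_{2',2}(H)`. -/
theorem core {K : Type u} [Field K] [IsAlgClosed K] [CharP K 2] {V : Type v} [AddCommGroup V]
    [Module K V] [FiniteDimensional K V] (H : Subgroup (V ≃ₗ[K] V)) [Finite H]
    (hsolv : Group.IsSolvable ↥H) (hO2 : Cfsg.pCore 2 ↥H = ⊥)
    (hirr : Irr (H : Set (V ≃ₗ[K] V)))
    (hsc : ∀ B : Subgroup (V ≃ₗ[K] V), B ≤ H → (∀ h ∈ H, ∀ b ∈ B, h * b * h⁻¹ ∈ B) →
      (∀ a ∈ B, ∀ b ∈ B, a * b = b * a) → Odd (Nat.card B) →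
      ∀ b ∈ B, ∃ c : K, op b = c • (1 : Module.End K V))
    (g : V ≃ₗ[K] V) (hg : g ∈ H) (m : ℕ) (hm : 1 ≤ m) (hgm : g ^ 2 ^ m = 1)
    (ht : (op g - 1) ^ (2 ^ m - 1) = 0) :
    (⟨g, hg⟩ : ↥H) ^ 2 ^ (m - 1) ∈ Cfsg.pPrimePCore 2 ↥H := by
  by_cases hg0 : g ^ 2 ^ (m - 1) = 1
  · have h1 : (⟨g, hg⟩ : ↥H) ^ 2 ^ (m - 1) = 1 := by
      apply Subtype.ext
      rw [Subgroup.coe_pow]
      exact hg0
    rw [h1]
    exact Subgroup.one_mem _
  · have hm2 : 2 ≤ m := by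
      by_contra hlt
      have hm1 : m = 1 := by omega
      subst hm1
      apply hg0
      have h2 : op g - 1 = 0 := by simpa using ht
      have h3 : op g = op (1 : V ≃ₗ[K] V) := by
        rw [op_one]
        exact sub_eq_zero.mp h2
      have h4 : g = 1 := op_injective h3
      rw [h4, one_pow]
    have hP := pt_out H hsolv hO2 hirr hsc g hg m hm hgm ht hg0
    have hgm' : (⟨g, hg⟩ : ↥H) ^ 2 ^ m = 1 := by
      apply Subtype.ext
      rw [Subgroup.coe_pow]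
      exact hgm
    exact e_main hsolv hO2 ⟨g, hg⟩ m hm2 hgm' hP

end Cfsg.Agent.Helper21.GT
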