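import Mathlib
import Cfsg.Prelude.Def_Local
import Cfsg.Agent.Lib.Helper9.PPrimeCoreSub
import Cfsg.Agent.Lib.Helper16.Solvable2
import Cfsg.Agent.Lib.Helper12.FrattiniAct
import Cfsg.Agent.S0012

/-!
# S3801 (Gross), block E, inner lemma E-CHIEF (helper8)

If a `2`-element `g` of a finite solvable group `X` acts quadratically on `O_{2',2}(X)` modulo `O_{2'}(X)`, then
`g ^ 2 ∈ O_{2',2}(X)`.
-/

set_option autoImplicit false

namespace Cfsg.Agent.Helper21.GT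

open scoped commutatorElement

/-- core of E-CHIEF: in a finite group `Y` with `C(O_2(Y)) ≤ O_2(Y)`, an element acting quadratically on `O_2(Y)`
has its square in `O_2(Y)`. -/
theorem chief_core {Y : Type*} [Group Y] [Finite Y]
    (hCQ : Subgroup.centralizer (Cfsg.pCore 2 Y : Set Y) ≤ Cfsg.pCore 2 Y) (g : Y)
    (h : ∀ u ∈ Cfsg.pCore 2 Y, ⁅⁅u, g⁆, g⁆ = 1) : g ^ 2 ∈ Cfsg.pCore 2 Y := by
  have : Fact (Nat.Prime 2) := ⟨Nat.prime_two⟩
  apply Cfsg.Agent.Helper12.FA.ker_rho_le hCQ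
  rw [MonoidHom.mem_ker]
  apply MulEquiv.ext
  intro v
  induction v using QuotientGroup.induction_on with
  | H q =>
    rw [Cfsg.Agent.Helper12.FA.rho_mk]
    have hQp : IsPGroup 2 ↥(Cfsg.pCore 2 Y) := Cfsg.Agent.Helper14.pCore_isPGroup 2 Y
    have h12 := (Cfsg.Agent.S0012.result (G := ↥(Cfsg.pCore 2 Y)) 2 hQp).2
    obtain ⟨u, hu⟩ := q
    set c : Y := ⁅u, g⁆ with hc
    have hcQ : c ∈ Cfsg.pCore 2 Y := by
      rw [hc, commutatorElement_def]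
      have h1 : g * u⁻¹ * g⁻¹ ∈ Cfsg.pCore 2 Y :=
        (inferInstance : (Cfsg.pCore 2 Y).Normal).conj_mem _ (inv_mem hu) g
      have h2 := mul_mem hu h1
      have e : u * g * u⁻¹ * g⁻¹ = u * (g * u⁻¹ * g⁻¹) := by group
      rw [e]; exact h2
    have hcg : Commute c g := commutatorElement_eq_one_iff_commute.1 (h u hu)
    have hcg' : c⁻¹ * g = g * c⁻¹ := (Commute.inv_left hcg).eq
    have e1 : g * u * g⁻¹ = c⁻¹ * u := by
      rw [hc, commutatorElement_def]; group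
    have e2 : g * c⁻¹ * g⁻¹ = c⁻¹ := by
      rw [← hcg', mul_inv_cancel_right]
    have e3 : g ^ 2 * u * (g ^ 2)⁻¹ = c⁻¹ * (c⁻¹ * u) := by
      calc g ^ 2 * u * (g ^ 2)⁻¹ = g * (g * u * g⁻¹) * g⁻¹ := by
            rw [pow_two, mul_inv_rev]; simp only [mul_assoc]
        _ = g * (c⁻¹ * u) * g⁻¹ := by rw [e1]
        _ = (g * c⁻¹ * g⁻¹) * (g * u * g⁻¹) := by group
        _ = c⁻¹ * (c⁻¹ * u) := by rw [e2, e1]
    have e4 : MulAut.conjNormal (g ^ 2) (⟨u, hu⟩ : ↥(Cfsg.pCore 2 Y)) =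
        ((⟨c, hcQ⟩ : ↥(Cfsg.pCore 2 Y)) ^ 2)⁻¹ * ⟨u, hu⟩ := by
      apply Subtype.ext
      rw [MulAut.conjNormal_apply]
      simp only [Subgroup.coe_mul, Subgroup.coe_inv, Subgroup.coe_pow]
      rw [e3]; group
    rw [e4, QuotientGroup.mk_mul, QuotientGroup.mk_inv,
      (QuotientGroup.eq_one_iff _).2 (h12 ⟨c, hcQ⟩)]
    simp

/-- **E-CHIEF.** If `g` acts quadratically on `O_{2',2}(X)` modulo `O_{2'}(X)` in a finite solvable group `X`, then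
`g ^ 2 ∈ O_{2',2}(X)`. -/
theorem chief_step {X : Type*} [Group X] [Finite X] (hsolv : Group.IsSolvable X) (g : X)
    (hg2 : ∃ k, g ^ 2 ^ k = 1)
    (h : ∀ u ∈ Cfsg.pPrimePCore 2 X, ⁅⁅u, g⁆, g⁆ ∈ Cfsg.pPrimeCore 2 X) :
    g ^ 2 ∈ Cfsg.pPrimePCore 2 X := by
  have : Fact (Nat.Prime 2) := ⟨Nat.prime_two⟩
  have hsolvb : Group.IsSolvable (X ⧸ Cfsg.pPrimeCore 2 X) := by
    have := hsolv
    infer_instance
  have hO : Cfsg.pPrimeCore 2 (X ⧸ Cfsg.pPrimeCore 2 X) = ⊥ :=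
    Cfsg.Agent.Helper9.pPrimeCore_quotient_eq_bot 2
  have hCQ := Cfsg.Agent.Helper16.centralizer_pCore_le_of_isSolvable 2 hsolvb hO
  show QuotientGroup.mk' (Cfsg.pPrimeCore 2 X) (g ^ 2) ∈ Cfsg.pCore 2 (X ⧸ Cfsg.pPrimeCore 2 X)
  rw [map_pow]
  apply chief_core hCQ
  intro ub hub
  obtain ⟨u, rfl⟩ := QuotientGroup.mk'_surjective (Cfsg.pPrimeCore 2 X) ub
  have hu : u ∈ Cfsg.pPrimePCore 2 X := hub
  have h1 := h u hu
  rw [← map_commutatorElement, ← map_commutatorElement]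
  exact (QuotientGroup.eq_one_iff _).2 h1

end Cfsg.Agent.Helper21.GT
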