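import Mathlib

/-!
# S3801 (Gross), block E, step (3) of piece E-SAME as a pure group lemma (helper2)

`P` a finite group of order dividing `2 ^ (m + 1)`, `x y : P` with `x ^ 2 ^ (m - 1) = y ^ 2 ^ (m - 1) = z`,
`z ≠ 1`, `z ^ 2 = 1`.  Then the commutator `y x y⁻¹ x⁻¹` is `1` or `z`.
-/

set_option autoImplicit false

namespace Cfsg.Agent.Helper21.GT

variable {P : Type*} [Group P]

theorem esame_orderOf (x z : P) (m : ℕ) (hm : 1 ≤ m) (hz : z ≠ 1) (hz2 : z ^ 2 = 1)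
    (hx : x ^ 2 ^ (m - 1) = z) : orderOf x = 2 ^ m := by
  obtain ⟨k, rfl⟩ : ∃ k, m = k + 1 := ⟨m - 1, by omega⟩
  rw [Nat.add_sub_cancel] at hx
  apply orderOf_eq_prime_pow
  · rw [hx]; exact hz
  · rw [pow_succ, pow_mul, hx, hz2]

theorem esame_index_dvd [Finite P] (x : P) (m : ℕ) (hcard : Nat.card P ∣ 2 ^ (m + 1))
    (hx : orderOf x = 2 ^ m) : (Subgroup.zpowers x).index ∣ 2 := by
  have h1 : (Subgroup.zpowers x).index * Nat.card (Subgroup.zpowers x) = Nat.card P :=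
    Subgroup.index_mul_card _
  rw [Nat.card_zpowers, hx] at h1
  rw [← h1, pow_succ, mul_comm (2 ^ m) 2] at hcard
  exact Nat.dvd_of_mul_dvd_mul_right (by positivity) hcard

theorem esame_normal_of_index_dvd_two (H : Subgroup P) (h : H.index ∣ 2) : H.Normal := by
  rcases (Nat.dvd_prime Nat.prime_two).mp h with h1 | h2
  · rw [Subgroup.index_eq_one] at h1
    rw [h1]; infer_instance
  · exact Subgroup.normal_of_index_eq_two h2

theorem esame_sq_mem_of_index_dvd_two (H : Subgroup P) (h : H.index ∣ 2) (a : P) : a ^ 2 ∈ H := by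
  rcases (Nat.dvd_prime Nat.prime_two).mp h with h1 | h2
  · rw [Subgroup.index_eq_one] at h1
    rw [h1]; exact Subgroup.mem_top _
  · exact Subgroup.sq_mem_of_index_two h2 a

/-- **Step (3) of E-SAME.** -/
theorem esame_arith [Finite P] (x y z : P) (m : ℕ) (hm : 1 ≤ m)
    (hcard : Nat.card P ∣ 2 ^ (m + 1)) (hz : z ≠ 1) (hz2 : z ^ 2 = 1)
    (hx : x ^ 2 ^ (m - 1) = z) (hy : y ^ 2 ^ (m - 1) = z) :
    y * x * y⁻¹ * x⁻¹ = 1 ∨ y * x * y⁻¹ * x⁻¹ = z := by
  have hox : orderOf x = 2 ^ m := esame_orderOf x z m hm hz hz2 hx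
  have hoy : orderOf y = 2 ^ m := esame_orderOf y z m hm hz hz2 hy
  set C := Subgroup.zpowers x with hC
  set Y := Subgroup.zpowers y with hY
  have hCi : C.index ∣ 2 := esame_index_dvd x m hcard hox
  have hYi : Y.index ∣ 2 := esame_index_dvd y m hcard hoy
  have hCn : C.Normal := esame_normal_of_index_dvd_two C hCi
  have hYn : Y.Normal := esame_normal_of_index_dvd_two Y hYi
  have hxC : x ∈ C := Subgroup.mem_zpowers x
  -- `x ^ 2 ∈ Y`
  have hx2Y : x ^ 2 ∈ Y := by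
    have hrel : (Y.subgroupOf C).index ∣ 2 :=
      dvd_trans (Subgroup.relIndex_dvd_index_of_normal Y C) hYi
    have := esame_sq_mem_of_index_dvd_two (Y.subgroupOf C) hrel ⟨x, hxC⟩
    rw [Subgroup.mem_subgroupOf] at this
    simpa using this
  -- `y` commutes with `x ^ 2`
  have hcomm : y * x ^ 2 * y⁻¹ = x ^ 2 := by
    obtain ⟨k, hk⟩ := Subgroup.mem_zpowers_iff.mp hx2Y
    rw [← hk]
    have : Commute y (y ^ k) := (Commute.refl y).zpow_right k
    rw [this.eq]; group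
  -- `w = y x y⁻¹ ∈ C`
  set w := y * x * y⁻¹ with hw
  have hwC : w ∈ C := hCn.conj_mem x hxC y
  obtain ⟨j, hj⟩ := Subgroup.mem_zpowers_iff.mp hwC
  have hwx : Commute w x := by
    rw [← hj]; exact (Commute.refl x).zpow_left j
  set c := w * x⁻¹ with hc
  have hc2 : c ^ 2 = 1 := by
    have h1 : c ^ 2 = w ^ 2 * (x⁻¹) ^ 2 := (hwx.inv_right).mul_pow 2
    have h2 : w ^ 2 = x ^ 2 := by rw [hw, conj_pow, hcomm]
    rw [h1, h2, inv_pow, mul_inv_cancel]
  have hcC : c ∈ C := C.mul_mem hwC (C.inv_mem hxC)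
  -- an element of `⟨x⟩` with square `1` is `1` or `z`
  obtain ⟨i, hi⟩ := Subgroup.mem_zpowers_iff.mp hcC
  have hgoal : c = 1 ∨ c = z := by
    have h2i : x ^ (2 * i) = 1 := by
      rw [mul_comm, zpow_mul, hi]
      exact_mod_cast hc2
    have hdvd : ((2 ^ m : ℕ) : ℤ) ∣ 2 * i := by
      rw [← hox]; exact orderOf_dvd_iff_zpow_eq_one.mpr h2i
    obtain ⟨k, rfl⟩ : ∃ k, m = k + 1 := ⟨m - 1, by omega⟩
    rw [Nat.add_sub_cancel] at hx
    have hdvd' : ((2 ^ k : ℕ) : ℤ) ∣ i := by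
      have : ((2 ^ (k + 1) : ℕ) : ℤ) = 2 * ((2 ^ k : ℕ) : ℤ) := by push_cast; ring
      rw [this] at hdvd
      exact (mul_dvd_mul_iff_left (by norm_num : (2 : ℤ) ≠ 0)).mp hdvd
    obtain ⟨t, ht⟩ := hdvd'
    have hcz : c = z ^ t := by
      rw [← hi, ht, zpow_mul, zpow_natCast, hx]
    rcases Int.even_or_odd t with ⟨s, hs⟩ | ⟨s, hs⟩
    · left
      rw [hcz, hs, ← two_mul, zpow_mul, zpow_ofNat, hz2, one_zpow]
    · right
      rw [hcz, hs, zpow_add, zpow_mul, zpow_ofNat, hz2, one_zpow, one_mul, zpow_one]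
  exact hgoal

end Cfsg.Agent.Helper21.GT
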