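import Mathlib
import Cfsg.Agent.Lib.GT.GTCore
import Cfsg.Agent.Lib.GRR.GRRFinal

/-!
# S3801 (Gross): theorem (T), the final statement of block R (reduction to CORE by induction on `dim V`).
Proved by block R (helper5): `Cfsg.Agent.Helper5.GRR.gross_T_final` (Lib/GRR/).
-/

set_option autoImplicit false

namespace Cfsg.Agent.Helper21.GT

open Cfsg.Agent.Helper4.ThB

universe u v w

/-- **Gross's theorem (T).** `H` finite solvable with `O_2(H) = 1`, acting faithfully on a finite-dimensional space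
over a field of characteristic 2; `g ^ 2 ^ m = 1` and `(g - 1) ^ (2 ^ m - 1) = 0` on `V`.  Then
`g ^ 2 ^ (m - 1) ∈ O_{2',2}(H)`. -/
theorem gross_T {F : Type u} [Field F] [CharP F 2] {V : Type v} [AddCommGroup V] [Module F V]
    [FiniteDimensional F V] {H : Type w} [Group H] [Finite H] (hsolv : Group.IsSolvable H)
    (hO2 : Cfsg.pCore 2 H = ⊥) (ρ : H →* (V ≃ₗ[F] V)) (hρ : Function.Injective ρ)
    (g : H) (m : ℕ) (hm : 1 ≤ m) (hgm : g ^ 2 ^ m = 1) (ht : (op (ρ g) - 1) ^ (2 ^ m - 1) = 0) :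
    g ^ 2 ^ (m - 1) ∈ Cfsg.pPrimePCore 2 H :=
  Cfsg.Agent.Helper5.GRR.gross_T_final hsolv hO2 ρ hρ g m hm hgm ht

end Cfsg.Agent.Helper21.GT
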